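/-
The group `omegaGL` of a non-degenerate quadratic form lies in no stabiliser of a subspace, of a decomposition into
lines or of a rational structure.
-/
import Cfsg.Agent.Lib.Techniques.AschPrime.Descent
import Cfsg.Agent.Lib.Classical22.OrthSubfieldMatrix
import Cfsg.Agent.Lib.Classical22.OrthMaxSubspace

set_option autoImplicit false

namespace CfsgLib.Techniques.AschOmega

open Matrix Cfsg CfsgLib.Classical CfsgLib.Classical22
open scoped MatrixGroups

variable {F : Type*} [Field F] {ι : Type} [Fintype ι] [DecidableEq ι]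

theorem omega_le_isometry (q : (ι → F) → F) : Cfsg.Geo.omegaGL q ≤ isometryGroup F q :=
  Subgroup.map_subtype_le _

theorem map_isometry {q : (ι → F) → F} {g : GL ι F} (hg : g ∈ isometryGroup F q) (v : ι → F) :
    q ((g : Matrix ι ι F) *ᵥ v) = q v := hg v v

theorem polar_isometry {q : (ι → F) → F} {g : GL ι F} (hg : g ∈ isometryGroup F q) (u v : ι → F) :
    QuadraticMap.polar q ((g : Matrix ι ι F) *ᵥ u) ((g : Matrix ι ι F) *ᵥ v) = QuadraticMap.polar q u v := by
  simp only [QuadraticMap.polar, ← mulVec_add, map_isometry hg]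

theorem omega_le_special (q : (ι → F) → F) : Cfsg.Geo.omegaGL q ≤ Cfsg.Geo.specialLinear ι F := by
  rintro _ ⟨g, hg, rfl⟩
  exact MonoidHom.mem_ker.mpr (MonoidHom.mem_ker.1 (Abelianization.commutator_subset_ker
    ((GeneralLinearGroup.det : GL ι F →* Fˣ).comp (isometryGroup F q).subtype) hg))

variable [Fintype F] (q : QuadraticForm F (ι → F))

theorem not_omega_le_subspace (hQ : PolarNondeg q) (hn : 5 ≤ Fintype.card ι) {W : Submodule F (ι → F)}
    (h0 : W ≠ ⊥) (h1 : W ≠ ⊤) : ¬ Cfsg.Geo.omegaGL ⇑q ≤ Cfsg.Geo.subspaceStabilizer W := by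
  intro hle
  rw [omegaGL_eq_map q hQ hn, Subgroup.map_le_iff_le_comap, comap_subspaceStabilizer] at hle
  exact h1 (eq_top_of_invariant q hQ (by rwa [Module.finrank_pi]) h0 hle)

theorem eich_mem_omega (hQ : PolarNondeg q) (hn : 5 ≤ Fintype.card ι) {u w : ι → F} (hu : q u = 0)
    (huw : QuadraticMap.polar q u w = 0) : qHom q (eich q u w) ∈ Cfsg.Geo.omegaGL ⇑q := by
  rw [omegaGL_eq_map q hQ hn]
  exact ⟨_, eich_mem q hu huw, rfl⟩

/-- An Eichler transformation moves a member of an orthogonal decomposition into lines off the decomposition. -/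
theorem not_omega_le_lines (hQ : PolarNondeg q) (hn : 5 ≤ Fintype.card ι) {t : ℕ}
    {D : Fin t → Submodule F (ι → F)} (hD : Cfsg.Geo.IsOrthogonalMDecomposition ⇑q 1 D) :
    ¬ Cfsg.Geo.omegaGL ⇑q ≤ Cfsg.Geo.decompositionStabilizer D := by
  intro hle
  have ht := hD.decomp.decomp.two_le
  obtain ⟨l, hl⟩ : ∃ l : Fin t, l = ⟨0, by omega⟩ := ⟨_, rfl⟩
  obtain ⟨y, hy, hy0⟩ : ∃ y ∈ D l, y ≠ (0 : ι → F) := Submodule.exists_mem_ne_zero_of_ne_bot fun h => by
    have h1 := hD.decomp.decomp.finrank_eq l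
    rw [h, finrank_bot] at h1
    exact zero_ne_one h1
  have hspan : ∀ x ∈ D l, ∃ c : F, c • y = x := fun x hx => by
    obtain ⟨c, hc⟩ := (finrank_eq_one_iff_of_nonzero' (⟨y, hy⟩ : D l) fun h => hy0 (congrArg Subtype.val h)).mp
      (hD.decomp.decomp.finrank_eq l) ⟨x, hx⟩
    exact ⟨c, congrArg Subtype.val hc⟩
  have hyy : QuadraticMap.polar q y y ≠ 0 := by
    intro h0
    obtain ⟨⟨x, hx, hxy⟩, -⟩ := hD.decomp.nondegenerate l y hy hy0
    obtain ⟨c, rfl⟩ := hspan x hx
    rw [QuadraticMap.polar_smul_left, h0, smul_zero] at hxy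
    exact hxy rfl
  obtain ⟨u, hu, hu0, hQu⟩ := exists_singular_mem q (C := qPerp q (Submodule.span F {y})) (by
    rw [finrank_qPerp q hQ, finrank_span_singleton hy0, Module.finrank_pi]
    omega)
  have hyu : QuadraticMap.polar q y u = 0 := (mem_qPerp_singleton q).1 hu
  have huy : QuadraticMap.polar q u y = 0 := (QuadraticMap.polar_comm q u y).trans hyu
  obtain ⟨σ, hσ⟩ := hle (eich_mem_omega q hQ hn hQu huy)
  have himg : (eich q u y).1 y ∈ D (σ l) := by
    rw [← qHom_mulVec, ← Matrix.toLin'_apply, ← hσ l]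
    exact Submodule.mem_map_of_mem hy
  rw [eich_apply q hQu huy, hyu, zero_smul, mul_zero, add_zero, add_zero] at himg
  have hσl : σ l = l := by
    by_contra hne
    have h := hD.decomp.orthogonal (σ l) l hne _ himg y hy
    rw [QuadraticMap.polar_sub_left, QuadraticMap.polar_smul_left, huy, smul_zero, sub_zero] at h
    exact hyy h
  rw [hσl] at himg
  obtain ⟨c, hc⟩ := hspan _ himg
  have h1 : c * QuadraticMap.polar q y y = QuadraticMap.polar q y y := by
    have := congrArg (fun x => QuadraticMap.polar q x y) hc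
    simpa [QuadraticMap.polar_sub_left, QuadraticMap.polar_smul_left, huy] using this
  have h2 : c = 1 := by simpa [hyy] using (mul_eq_right₀ hyy).mp h1
  rw [h2, one_smul, eq_comm, sub_eq_self, smul_eq_zero] at hc
  exact hc.elim hyy hu0

open CfsgLib.Transvec CfsgLib.Classical22.OrthSubfield in
theorem not_omega_le_subfield (hQ : PolarNondeg q) (hn : 7 ≤ Fintype.card ι) {F₀ : Subfield F} (hne : F₀ ≠ ⊤)
    {P : GL ι F} (hP : Cfsg.Geo.IsQuadFormRationalStructure ⇑q F₀ P) :
    ¬ Cfsg.Geo.omegaGL ⇑q ≤ Cfsg.Geo.subfieldSubgroup F₀ P := by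
  intro hle
  obtain ⟨R, hR⟩ := exists_ratForm q hQ F₀ P hP
  letI : Fintype F₀ := Fintype.ofFinite _
  have hdim : Module.finrank F₀ (ι → F₀) = Fintype.card ι := Module.finrank_fintype_fun_eq_card _
  obtain ⟨θ, -, hθ⟩ := SetLike.exists_of_lt (lt_top_iff_ne_top.2 hne)
  obtain ⟨x, z', hx0, hx, -, hz', hxz'⟩ := R.exists_singular_opposite (by omega)
  obtain ⟨z, hz, hz0, hQz⟩ := exists_singular_mem R.form (C := qPerp R.form (Submodule.span F₀ {x, z'}))
    (by have := finrank_le_qPerp_pair R.form R.nd x z'; omega)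
  have hzp := (mem_qPerp_pair R.form).1 hz
  have hline : R.IsLine x z := ⟨hx0, hx, hQz, hzp.1, fun h => by
    obtain ⟨t, rfl⟩ := Submodule.mem_span_singleton.1 h
    have := hzp.2
    simp only [RatForm.pol] at hxz'
    rw [QuadraticMap.polar_smul_right, QuadraticMap.polar_comm R.form z' x, hxz', smul_eq_mul, mul_one] at this
    exact hz0 (by rw [this, zero_smul])⟩
  obtain ⟨p, hp1, hp2⟩ := hline.symm.exists_dual
  have e0 : QuadraticMap.polar q (R.emb x) (θ • R.emb z) = 0 := by
    rw [QuadraticMap.polar_smul_right, R.polar_eq_zero hzp.1, smul_zero]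
  have hmem := hle (eich_mem_omega q hQ (by omega) (R.quad_eq_zero hx) e0)
  obtain ⟨l, r', hlr⟩ := lines_of_mem_subfieldSubgroup hmem p
  rw [← hR, ← hR, qHom_mulVec, eich_apply q (R.quad_eq_zero hx) e0, QuadraticMap.polar_smul_right,
    QuadraticMap.polar_comm q (R.emb p) (R.emb x), QuadraticMap.polar_comm q (R.emb p) (R.emb z), R.polar_emb,
    R.polar_emb, hp1, hp2, ZeroMemClass.coe_zero, OneMemClass.coe_one, zero_smul, mul_zero, add_zero,
    add_zero, smul_eq_mul, mul_one] at hlr
  have hl : l * (R.pol z r' : F) = 1 := by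
    have := congrArg (QuadraticMap.polar q (R.emb z)) hlr
    rw [QuadraticMap.polar_sub_right, QuadraticMap.polar_smul_right, QuadraticMap.polar_smul_right, R.polar_emb,
      R.polar_emb, R.polar_emb, hp1, show R.pol z x = 0 from hline.symm.orth] at this
    simpa using this.symm
  have hlm : l ∈ F₀ := by
    rw [eq_inv_of_mul_eq_one_left hl]
    exact inv_mem (R.pol z r').2
  refine hθ (R.mem_line hx0 (z := p - (⟨l, hlm⟩ : F₀) • r') ?_).2
  rw [map_sub, R.emb_smul, ← hlr]
  abel

/-- The anisotropic lines of a hyperbolic plane with value `1` over three elements form one line. -/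
theorem exists_line_of_plane (hq : Fintype.card F = 3) {W : Submodule F (ι → F)}
    (hdim : Module.finrank F W = 2) (hW : Cfsg.Geo.IsNondegenerateOn (QuadraticMap.polar q) W)
    (hplus : Cfsg.Geo.IsPlusTypeOn ⇑q W) :
    ∃ a ∈ W, q a = 1 ∧ ∀ x ∈ W, q x = 1 → x ∈ Submodule.span F {a} := by
  have hWnd := ndOn_of_isNondegenerateOn q hW
  obtain ⟨U, hUW, hUs, hUd⟩ := hplus
  obtain ⟨e, heU, he0⟩ := Submodule.exists_mem_ne_zero_of_ne_bot (p := U) fun h => by
    rw [h, finrank_bot, hdim] at hUd
    omega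
  have he : e ∈ W := hUW heU
  have hQe : q e = 0 := hUs e heU
  obtain ⟨f, hf, hQf, hef⟩ := exists_partner q hWnd he he0 hQe
  refine ⟨e + f, W.add_mem he hf, by rw [quad_add, hQe, hQf, hef]; simp, fun x hx hQx => ?_⟩
  have hee : QuadraticMap.polar q e e = 0 := by rw [quad_polar_self, hQe, mul_zero]
  have hff : QuadraticMap.polar q f f = 0 := by rw [quad_polar_self, hQf, mul_zero]
  have hfe : QuadraticMap.polar q f e = 1 := by rw [QuadraticMap.polar_comm, hef]
  have hli : ∀ s t : F, s • e + t • f = 0 → s = 0 ∧ t = 0 := fun s t h => by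
    have h1 := congrArg (fun y => QuadraticMap.polar q y f) h
    have h2 := congrArg (fun y => QuadraticMap.polar q y e) h
    simp only [QuadraticMap.polar_add_left, QuadraticMap.polar_smul_left, hee, hff, hef, hfe,
      QuadraticMap.polar_zero_left, smul_eq_mul, mul_one, mul_zero, add_zero, zero_add] at h1 h2
    exact ⟨h1, h2⟩
  have hspan : Submodule.span F {e, f} = W := by
    refine Submodule.eq_of_le_of_finrank_le (Submodule.span_le.2 ?_) ?_
    · rintro y (rfl | rfl) <;> assumption
    · have hl : LinearIndependent F ![e, f] := LinearIndependent.pair_iff.2 hli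
      have h := finrank_span_eq_card hl
      rw [Fintype.card_fin, Matrix.range_cons_cons_empty] at h
      rw [hdim, h]
  rw [← hspan, Submodule.mem_span_pair] at hx
  obtain ⟨s, t, rfl⟩ := hx
  rw [quad_add, quad_smul, quad_smul, hQe, hQf, QuadraticMap.polar_smul_left, QuadraticMap.polar_smul_right, hef,
    smul_eq_mul, smul_eq_mul, mul_zero, mul_zero, zero_add, zero_add, mul_one] at hQx
  have hs : s ≠ 0 := fun h => zero_ne_one (by rw [← hQx, h, zero_mul])
  have hss := FiniteField.pow_card_sub_one_eq_one s hs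
  rw [hq, sq] at hss
  rw [← mul_left_cancel₀ hs (hss.trans hQx.symm), ← smul_add]
  exact Submodule.smul_mem _ _ (Submodule.mem_span_singleton_self _)

end CfsgLib.Techniques.AschOmega
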