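/-
An irreducible group of isometries in odd prime dimension that normalises a diagonal group: the lines are orthogonal.
-/
import Cfsg.Agent.Lib.Techniques.AschPrime.Clifford
import Cfsg.Agent.Lib.Techniques.AschOmega.Members

set_option autoImplicit false

namespace CfsgLib.Techniques.AschOmega

open Matrix CfsgLib.Techniques.AschPrime CfsgLib.Classical
open scoped MatrixGroups

variable {F : Type*} [Field F] [Fintype F] {ι : Type} [Fintype ι] [DecidableEq ι]

/-- The conclusion: an orthogonal decomposition into isometric lines, and signed monomial matrices in adapted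
coordinates. -/
theorem lines_orthogonal {n : ℕ} (hn : Fintype.card ι = n) (hp : n.Prime) (hodd : Odd n)
    {q : QuadraticForm F (ι → F)} (hQ : PolarNondeg q) (h2 : (2 : F) ≠ 0) {H A : Subgroup (GL ι F)}
    (hirr : Irr H) (hiso : H ≤ Cfsg.isometryGroup F ⇑q) (hAH : A ≤ H) (hAn : NormalisedBy H A)
    (hAs : ¬ A ≤ Cfsg.Geo.scalars ι F) {D : Fin n → Submodule F (ι → F)} (hD : Cfsg.Geo.IsMDecomposition 1 D)
    (hst : H ≤ Cfsg.Geo.decompositionStabilizer D)
    {χ : Fin n → A → F} (hχ : ∀ i (x : A), ∀ v ∈ D i, ((x : GL ι F) : Matrix ι ι F) *ᵥ v = χ i x • v) :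
    Cfsg.Geo.IsOrthogonalMDecomposition ⇑q 1 D ∧ AbsIrr H ∧
      ∃ B : GL ι F, ∀ s ∈ H, ∀ i j, ((B : Matrix ι ι F) * (s : Matrix ι ι F) * ((B⁻¹ : GL ι F) : Matrix ι ι F)) i j = 0 ∨
        ((B : Matrix ι ι F) * (s : Matrix ι ι F) * ((B⁻¹ : GL ι F) : Matrix ι ι F)) i j = 1 ∨
        ((B : Matrix ι ι F) * (s : Matrix ι ι F) * ((B⁻¹ : GL ι F) : Matrix ι ι F)) i j = -1 := by
  classical
  haveI : Nonempty ι := Fintype.card_pos_iff.mp (hn ▸ hp.pos)
  have hpick : ∀ i, ∃ v ∈ D i, v ≠ (0 : ι → F) := fun i =>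
    Submodule.exists_mem_ne_zero_of_ne_bot fun h => by
      have h1 := hD.finrank_eq i
      rw [h, finrank_bot] at h1
      exact zero_ne_one h1
  choose v hv hv0 using hpick
  have hspan : ∀ i, ∀ x ∈ D i, ∃ a : F, a • v i = x := fun i x hx => by
    obtain ⟨a, ha⟩ := (finrank_eq_one_iff_of_nonzero' (⟨v i, hv i⟩ : D i)
      (fun h => hv0 i (congrArg Subtype.val h))).mp (hD.finrank_eq i) ⟨x, hx⟩
    exact ⟨a, congrArg Subtype.val ha⟩
  have hall : ∀ W : Submodule F (ι → F), (∀ i, v i ∈ W) → W = ⊤ := fun W hW => by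
    rw [eq_top_iff, ← hD.iSup_eq_top]
    refine iSup_le fun i x hx => ?_
    obtain ⟨a, rfl⟩ := hspan i x hx
    exact W.smul_mem _ (hW i)
  have hact : ∀ h ∈ H, ∃ σ : Equiv.Perm (Fin n), ∀ i, ∃ c : F, c ≠ 0 ∧
      (h : Matrix ι ι F) *ᵥ v i = c • v (σ i) := by
    intro h hh
    obtain ⟨σ, hσ⟩ := hst hh
    refine ⟨σ, fun i => ?_⟩
    obtain ⟨c, hc⟩ := hspan (σ i) ((h : Matrix ι ι F) *ᵥ v i) (hσ i ▸ ⟨v i, hv i, Matrix.toLin'_apply _ _⟩)
    refine ⟨c, fun h0 => hv0 i (mulVec_inj h ?_), hc.symm⟩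
    rw [mulVec_zero, ← hc, h0, zero_smul]
  have hev : ∀ i (x : A), ((x : GL ι F) : Matrix ι ι F) *ᵥ v i = χ i x • v i := fun i x => hχ i x _ (hv i)
  -- transport of characters
  have htr : ∀ h (hh : h ∈ H) i j (c : F), c ≠ 0 → (h : Matrix ι ι F) *ᵥ v i = c • v j →
      ∀ x : A, χ j ⟨h * x * h⁻¹, hAn h hh x x.2⟩ = χ i x := by
    intro h hh i j c hc hij x
    have h1 : ((h * x * h⁻¹ : GL ι F) : Matrix ι ι F) *ᵥ ((h : Matrix ι ι F) *ᵥ v i) =
        χ i x • ((h : Matrix ι ι F) *ᵥ v i) := by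
      rw [← mulVec_mul, inv_mul_cancel_right, mulVec_mul, hev, mulVec_smul]
    rw [hij, mulVec_smul] at h1
    change c • (((⟨h * x * h⁻¹, hAn h hh x x.2⟩ : A) : GL ι F) : Matrix ι ι F) *ᵥ v j = _ at h1
    rw [hev, smul_smul, smul_smul, mul_comm c] at h1
    exact mul_right_cancel₀ hc (smul_left_injective F (hv0 j) h1)
  have htrans : ∀ i j, ∃ h ∈ H, ∃ c : F, c ≠ 0 ∧ (h : Matrix ι ι F) *ᵥ v i = c • v j := by
    intro i j
    by_contra hno
    obtain ⟨S, hS⟩ : ∃ S : Set (Fin n), S = {k | ∃ h ∈ H, ∃ c : F, c ≠ 0 ∧ (h : Matrix ι ι F) *ᵥ v i = c • v k} :=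
      ⟨_, rfl⟩
    have hiS : i ∈ S := hS ▸ ⟨1, H.one_mem, 1, one_ne_zero, by simp⟩
    have hinv : Inv H (Submodule.span F (v '' S)) := by
      intro g hg w hw
      induction hw using Submodule.span_induction with
      | mem x hx =>
        obtain ⟨k, hk, rfl⟩ := hx
        rw [hS] at hk
        obtain ⟨h, hh, c, hc, hhc⟩ := hk
        obtain ⟨σ, hσ⟩ := hact g hg
        obtain ⟨d, hd, hgd⟩ := hσ k
        rw [hgd]
        refine Submodule.smul_mem _ _ (Submodule.subset_span ⟨σ k, ?_, rfl⟩)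
        rw [hS]
        exact ⟨g * h, H.mul_mem hg hh, c * d, mul_ne_zero hc hd,
          by rw [mulVec_mul, hhc, mulVec_smul, hgd, smul_smul]⟩
      | zero => simp
      | add a b _ _ ha hb => rw [mulVec_add]; exact Submodule.add_mem _ ha hb
      | smul t a _ ha => rw [mulVec_smul]; exact Submodule.smul_mem _ _ ha
    rcases (irr_iff H).mp hirr _ hinv with h | h
    · exact hv0 i ((Submodule.mem_bot F).1 (h ▸ Submodule.subset_span ⟨i, hiS, rfl⟩))
    · refine hv0 j ?_
      have hle : Submodule.span F (v '' S) ≤ ⨆ k ∈ ({j}ᶜ : Set (Fin n)), D k := by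
        rw [Submodule.span_le]
        rintro _ ⟨k, hk, rfl⟩
        refine Submodule.mem_iSup_of_mem k (Submodule.mem_iSup_of_mem ?_ (hv k))
        intro hkj
        rw [Set.mem_singleton_iff] at hkj
        rw [hS, hkj] at hk
        exact hno hk
      rw [h] at hle
      exact (Submodule.mem_bot F).1 ((hD.indep j).le_bot ⟨hv j, by
        have := hle (Submodule.mem_top (x := v j))
        simpa using this⟩)
  -- the characters are distinct
  have hchar : Function.Injective χ := by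
    have hfib : ∀ i j, (Finset.univ.filter fun k => χ k = χ i).card ≤
        (Finset.univ.filter fun k => χ k = χ j).card := by
      intro i j
      obtain ⟨h, hh, c, hc, hij⟩ := htrans i j
      obtain ⟨σ, hσ⟩ := hact h hh
      refine Finset.card_le_card_of_injOn σ (fun k hk => ?_) σ.injective.injOn
      rw [Finset.mem_coe, Finset.mem_filter] at hk ⊢
      refine ⟨Finset.mem_univ _, funext fun x => ?_⟩
      obtain ⟨d, hd, hkd⟩ := hσ k
      have hy : h⁻¹ * (x : GL ι F) * h ∈ A := hAn.inv_mem hh x.2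
      have e1 := htr h hh k (σ k) d hd hkd ⟨_, hy⟩
      have e2 := htr h hh i j c hc hij ⟨_, hy⟩
      have e3 : (⟨h * (h⁻¹ * (x : GL ι F) * h) * h⁻¹, hAn h hh _ hy⟩ : A) = x := Subtype.ext (by group)
      rw [e3] at e1 e2
      rw [e1, e2, hk.2]
    obtain ⟨i₀⟩ : Nonempty (Fin n) := ⟨⟨0, hp.pos⟩⟩
    have hcard : n = (Finset.univ.image χ).card * (Finset.univ.filter fun k => χ k = χ i₀).card := by
      conv_lhs => rw [← Fintype.card_fin n, ← Finset.card_univ,
        Finset.card_eq_sum_card_image χ Finset.univ]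
      rw [Finset.sum_const_nat fun f hf => ?_]
      obtain ⟨i, -, rfl⟩ := Finset.mem_image.1 hf
      exact le_antisymm (hfib i i₀) (hfib i₀ i)
    rcases (Nat.dvd_prime hp).mp ⟨_, hcard⟩ with h | h
    · exfalso
      apply hAs
      intro x hx
      refine mem_scalars_of_eq_smul (c := χ i₀ ⟨x, hx⟩) (Matrix.toLin'.injective (LinearMap.ext fun w => ?_))
      have hw : (⟨x, hx⟩ : A).1.1 *ᵥ w = χ i₀ ⟨x, hx⟩ • w := by
        have hmem : w ∈ LinearMap.ker (Matrix.toLin' (x : Matrix ι ι F) - χ i₀ ⟨x, hx⟩ • LinearMap.id) := by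
          have htop := hall (LinearMap.ker (Matrix.toLin' (x : Matrix ι ι F) - χ i₀ ⟨x, hx⟩ • LinearMap.id)) fun i => by
            have hi : χ i = χ i₀ := Finset.card_le_one.1 h.le _ (Finset.mem_image_of_mem χ (Finset.mem_univ i)) _
              (Finset.mem_image_of_mem χ (Finset.mem_univ i₀))
            rw [LinearMap.mem_ker, LinearMap.sub_apply, Matrix.toLin'_apply, LinearMap.smul_apply, LinearMap.id_apply,
              hev i ⟨x, hx⟩, hi, sub_self]
          rw [htop]
          trivial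
        rwa [LinearMap.mem_ker, LinearMap.sub_apply, Matrix.toLin'_apply, LinearMap.smul_apply, LinearMap.id_apply,
          sub_eq_zero] at hmem
      simpa [Matrix.toLin'_apply, Matrix.smul_mulVec] using hw
    · refine fun i j hij => ?_
      have hinj := Finset.card_image_iff.1 (h.trans (Fintype.card_fin n).symm)
      exact hinj (Finset.mem_univ i) (Finset.mem_univ j) hij
  -- products of characters
  have hpair : ∀ i j, QuadraticMap.polar q (v i) (v j) ≠ 0 → ∀ x : A, χ i x * χ j x = 1 := by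
    intro i j hij x
    have h := polar_isometry (hiso (hAH x.2)) (v i) (v j)
    rw [hev, hev, QuadraticMap.polar_smul_left, QuadraticMap.polar_smul_right, smul_eq_mul, smul_eq_mul,
      ← mul_assoc] at h
    exact (mul_eq_right₀ hij).mp h
  have huniq : ∀ i j k, QuadraticMap.polar q (v i) (v j) ≠ 0 → QuadraticMap.polar q (v i) (v k) ≠ 0 → j = k :=
    fun i j k hj hk => hchar (funext fun x => mul_left_cancel₀
      (fun h0 => zero_ne_one (α := F) (by rw [← hpair i j hj x, h0, zero_mul]))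
      ((hpair i j hj x).trans (hpair i k hk x).symm))
  have hex : ∀ i, ∃ j, QuadraticMap.polar q (v i) (v j) ≠ 0 := by
    intro i
    by_contra hno
    push Not at hno
    refine hv0 i (hQ _ fun w => ?_)
    have hmem : w ∈ LinearMap.ker (QuadraticMap.polarBilin q (v i)) := by
      rw [hall _ fun j => LinearMap.mem_ker.2 (hno j)]
      trivial
    exact LinearMap.mem_ker.1 hmem
  choose τ hτ using hex
  have hτinv : Function.Involutive τ := fun i =>
    huniq (τ i) _ _ (hτ (τ i)) ((QuadraticMap.polar_comm q (v (τ i)) (v i)).trans_ne (hτ i))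
  obtain ⟨i₀, hi₀⟩ : ∃ i, τ i = i := by
    haveI : Fact (Nat.Prime 2) := ⟨Nat.prime_two⟩
    obtain ⟨i, hi⟩ := Equiv.Perm.exists_fixed_point_of_prime (p := 2) (n := 1)
      (by rw [Fintype.card_fin]; exact fun h => (Nat.not_even_iff_odd.2 hodd) (even_iff_two_dvd.2 h))
      (σ := hτinv.toPerm τ) (by ext i; simp [pow_two, hτinv i])
    exact ⟨i, hi⟩
  have hdiag : ∀ i, QuadraticMap.polar q (v i) (v i) ≠ 0 := by
    intro i h0
    obtain ⟨h, hh, c, hc, hij⟩ := htrans i₀ i
    refine hi₀ ▸ hτ i₀ <| ?_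
    rw [← polar_isometry (hiso hh), hij, QuadraticMap.polar_smul_left, QuadraticMap.polar_smul_right, h0,
      smul_zero, smul_zero]
  have horth : ∀ i j, i ≠ j → QuadraticMap.polar q (v i) (v j) = 0 := fun i j hij => by
    by_contra h
    exact hij (huniq i i j (hdiag i) h)
  have hnc : ¬ ∀ x ∈ H, ∀ y ∈ H, x * y = y * x := by
    intro hcomm
    obtain ⟨h, hh, c, hc, hij⟩ := htrans ⟨0, hp.pos⟩ ⟨1, hp.one_lt⟩
    have := hchar (funext fun x => by
      have h1 := htr h hh _ _ c hc hij x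
      have e : (⟨h * x * h⁻¹, hAn h hh x x.2⟩ : A) = x :=
        Subtype.ext (show h * (x : GL ι F) * h⁻¹ = x by rw [hcomm h hh x (hAH x.2), mul_inv_cancel_right])
      rw [e] at h1
      exact h1 : χ ⟨1, hp.one_lt⟩ = χ ⟨0, hp.pos⟩)
    simp at this
  refine ⟨⟨⟨hD, fun i w hw hw0 => ?_, fun i j hij x hx y hy => ?_⟩, fun i j => ?_⟩,
    absIrr_of_nonabelian (hn ▸ hp) hirr (fun h hh x hx => H.mul_mem (H.mul_mem hh hx) (H.inv_mem hh)) hnc, ?_⟩
  · obtain ⟨a, rfl⟩ := hspan i w hw
    have ha : a ≠ 0 := fun h => hw0 (by rw [h, zero_smul])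
    refine ⟨⟨v i, hv i, ?_⟩, ⟨v i, hv i, ?_⟩⟩
    · rw [QuadraticMap.polar_smul_right, smul_eq_mul]; exact mul_ne_zero ha (hdiag i)
    · rw [QuadraticMap.polar_smul_left, smul_eq_mul]; exact mul_ne_zero ha (hdiag i)
  · obtain ⟨a, rfl⟩ := hspan i x hx
    obtain ⟨b, rfl⟩ := hspan j y hy
    rw [QuadraticMap.polar_smul_left, QuadraticMap.polar_smul_right, horth i j hij, smul_zero, smul_zero]
  · obtain ⟨h, hh, c, hc, hij⟩ := htrans i j
    have hmap : (D i).map (Matrix.toLin' (h : Matrix ι ι F)) = D j := by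
      refine Submodule.eq_of_le_of_finrank_eq ?_ (by rw [finrank_map_gl, hD.finrank_eq, hD.finrank_eq])
      rintro _ ⟨w, hw, rfl⟩
      obtain ⟨a, rfl⟩ := hspan i w hw
      rw [Matrix.toLin'_apply, mulVec_smul, hij]
      exact (D j).smul_mem _ ((D j).smul_mem _ (hv j))
    refine ⟨(Submodule.equivMapOfInjective _ (toLin'_injective_of_gl h) (D i)).trans (LinearEquiv.ofEq _ _ hmap),
      fun w => ?_⟩
    exact (congrArg q (Matrix.toLin'_apply _ _)).trans (map_isometry (hiso hh) _)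
  · -- signed monomial coordinates
    choose g hg c hc hgc using htrans i₀
    let w : Fin n → ι → F := fun j => (g j : Matrix ι ι F) *ᵥ v i₀
    have hQw : ∀ j, q (w j) = q (v i₀) := fun j => map_isometry (hiso (hg j)) _
    have hwD : ∀ j, w j ∈ D j := fun j => by
      simp only [w, hgc]
      exact (D j).smul_mem _ (hv j)
    have hw0 : ∀ j, w j ≠ 0 := fun j => by
      simp only [w, hgc]
      exact smul_ne_zero (hc j) (hv0 j)
    have hQ0 : q (v i₀) ≠ 0 := fun h => hdiag i₀ (by rw [quad_polar_self, h, mul_zero])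
    let e : ι ≃ Fin n := Fintype.equivFinOfCardEq hn
    let C : Matrix ι ι F := Matrix.of fun a i => w (e i) a
    have hCdet : IsUnit C.det := by
      rw [← Matrix.isUnit_iff_isUnit_det, ← Matrix.linearIndependent_cols_iff_isUnit]
      exact (hD.indep.linearIndependent _ hwD hw0).comp e e.injective
    refine ⟨(Matrix.GeneralLinearGroup.mk'' C hCdet)⁻¹, fun s hs a b => ?_⟩
    obtain ⟨σ, hσ⟩ := hst hs
    obtain ⟨d, hd⟩ : ∃ d : F, d • w (σ (e b)) = (s : Matrix ι ι F) *ᵥ w (e b) := by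
      have hmem : (s : Matrix ι ι F) *ᵥ w (e b) ∈ D (σ (e b)) :=
        hσ (e b) ▸ ⟨w (e b), hwD _, Matrix.toLin'_apply _ _⟩
      obtain ⟨d, hd⟩ := (finrank_eq_one_iff_of_nonzero' (⟨_, hwD (σ (e b))⟩ : D (σ (e b)))
        fun h => hw0 _ (congrArg Subtype.val h)).mp (hD.finrank_eq _) ⟨_, hmem⟩
      exact ⟨d, congrArg Subtype.val hd⟩
    have hd1 : d = 1 ∨ d = -1 := by
      refine mul_self_eq_one_iff.1 ((mul_eq_right₀ hQ0).mp ?_)
      have h := map_isometry (hiso hs) (w (e b))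
      rw [← hd, quad_smul, hQw, hQw] at h
      exact h
    set B := Matrix.GeneralLinearGroup.mk'' C hCdet with hB
    have hcol : ∀ k, (B : Matrix ι ι F) *ᵥ Pi.single k 1 = w (e k) := fun k => by
      funext l
      change (C *ᵥ Pi.single k 1) l = _
      simp [C]
    have hent : (((B⁻¹ : GL ι F) : Matrix ι ι F) * (s : Matrix ι ι F) * (((B⁻¹)⁻¹ : GL ι F) : Matrix ι ι F)) *ᵥ
        Pi.single b 1 = d • Pi.single (e.symm (σ (e b))) 1 := by
      rw [inv_inv, ← mulVec_mulVec, hcol, ← mulVec_mulVec, ← hd, mulVec_smul]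
      congr 1
      apply mulVec_inj B
      rw [← mulVec_mul, mul_inv_cancel, Units.val_one, one_mulVec, hcol, Equiv.apply_symm_apply]
    have := congrFun hent a
    rw [mulVec_single_one] at this
    rw [show ((((B⁻¹ : GL ι F) : Matrix ι ι F) * (s : Matrix ι ι F) * (((B⁻¹)⁻¹ : GL ι F) : Matrix ι ι F))) a b =
      _ from this, Pi.smul_apply, Pi.single_apply, smul_eq_mul]
    split_ifs
    · rw [mul_one]; exact Or.inr hd1
    · exact Or.inl (mul_zero _)

end CfsgLib.Techniques.AschOmega
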