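/-
Rational structures of a quadratic form attached to absolutely irreducible groups of isometries, and descent along
an invariant hermitian form.
-/
import Cfsg.Agent.Lib.Techniques.AschPrime.Descent
import Cfsg.Agent.Lib.Techniques.AschOmega.Members

set_option autoImplicit false

namespace CfsgLib.Techniques.AschOmega

open Matrix CfsgLib.Techniques.AschPrime
open scoped MatrixGroups

variable {F : Type*} [Field F] {ι : Type} [Fintype ι] [DecidableEq ι]

omit [Fintype ι] [DecidableEq ι] in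
/-- The polar form is bilinear. -/
theorem polar_bilin (q : QuadraticForm F (ι → F)) : Cfsg.Geo.IsBilinearForm (QuadraticMap.polar ⇑q) :=
  ⟨fun x y v => QuadraticMap.polar_add_left q x y v,
    fun c x v => (QuadraticMap.polar_smul_left q c x v).trans (smul_eq_mul _ _),
    fun v x y => QuadraticMap.polar_add_right q v x y,
    fun c v x => (QuadraticMap.polar_smul_right q c v x).trans (smul_eq_mul _ _)⟩

omit [Fintype ι] [DecidableEq ι] in
theorem polar_nondeg {q : QuadraticForm F (ι → F)} (hQ : CfsgLib.Classical.PolarNondeg q) :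
    Cfsg.Geo.IsNondegenerateForm (QuadraticMap.polar ⇑q) := by
  intro v hv
  obtain ⟨x, hx⟩ : ∃ x, QuadraticMap.polar q v x ≠ 0 := by
    by_contra h
    push Not at h
    exact hv (hQ v h)
  exact ⟨⟨x, by rwa [QuadraticMap.polar_comm]⟩, ⟨x, hx⟩⟩

/-- The matrix of the polar form. -/
abbrev polarMat (q : QuadraticForm F (ι → F)) : Matrix ι ι F := Cfsg.Geo.gramMatrix (QuadraticMap.polar ⇑q)

theorem polarMat_symm (q : QuadraticForm F (ι → F)) : (polarMat q)ᵀ = polarMat q :=
  Matrix.ext fun _ _ => QuadraticMap.polar_comm _ _ _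

theorem polarMat_det {q : QuadraticForm F (ι → F)} (hQ : CfsgLib.Classical.PolarNondeg q) :
    (polarMat q).det ≠ 0 :=
  (IsSesq.of_bilinear (polar_bilin q)).gram_det_ne_zero (polar_nondeg hQ)

theorem polarMat_isometry (q : QuadraticForm F (ι → F)) {g : GL ι F} (hg : g ∈ Cfsg.isometryGroup F ⇑q) :
    (g : Matrix ι ι F)ᵀ * polarMat q * (g : Matrix ι ι F) = polarMat q := by
  have h : Cfsg.Geo.gramMatrix (fun u v => QuadraticMap.polar ⇑q ((g : Matrix ι ι F) *ᵥ u) ((g : Matrix ι ι F) *ᵥ v)) =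
      polarMat q := congrArg Cfsg.Geo.gramMatrix (funext fun u => funext fun v => polar_isometry hg u v)
  rw [(IsSesq.of_bilinear (polar_bilin q)).gram_comp] at h
  simpa using h

theorem det_mem_subfield {F₀ : Subfield F} {A : Matrix ι ι F} (hA : ∀ i j, A i j ∈ F₀) : A.det ∈ F₀ := by
  rw [Matrix.det_apply']
  exact sum_mem fun σ _ => F₀.mul_mem (intCast_mem F₀ _) (prod_mem fun i _ => hA _ _)

theorem smul_conj_mem {F₀ : Subfield F} {P : GL ι F} {c : Fˣ} :
    Cfsg.Geo.subfieldSubgroup F₀ (P * Units.map (Matrix.scalar ι : F →+* Matrix ι ι F).toMonoidHom c) =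
      Cfsg.Geo.subfieldSubgroup F₀ P := by
  obtain ⟨z, hz⟩ : ∃ z, z = Units.map (Matrix.scalar ι : F →+* Matrix ι ι F).toMonoidHom c := ⟨_, rfl⟩
  have hzs : z ∈ Cfsg.Geo.scalars ι F := ⟨c, hz.symm⟩
  rw [← hz]
  simp only [Cfsg.Geo.subfieldSubgroup]
  congr 1
  refine MonoidHom.ext fun x => ?_
  change P * z * x * (P * z)⁻¹ = P * x * P⁻¹
  rw [mul_assoc P z x, scalars_comm hzs x]
  group

variable [Fintype F]

omit [Fintype F] in
/-- An absolutely irreducible group of isometries written over a subfield gives a rational structure of the form, once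
the standard basis is rational and the dimension is odd. -/
theorem exists_rational_structure {q : QuadraticForm F (ι → F)} (hQ : CfsgLib.Classical.PolarNondeg q)
    (h2 : (2 : F) ≠ 0) (hodd : Odd (Fintype.card ι)) {F₀ : Subfield F}
    (hstd : ∀ i j, polarMat q i j ∈ F₀) {S : Subgroup (GL ι F)} (hS : AbsIrr S)
    (hiso : S ≤ Cfsg.isometryGroup F ⇑q) {B : GL ι F}
    (hB : ∀ s ∈ S, ∀ i j, ((B : Matrix ι ι F) * (s : Matrix ι ι F) * ((B⁻¹ : GL ι F) : Matrix ι ι F)) i j ∈ F₀) :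
    ∃ P : GL ι F, Cfsg.Geo.IsQuadFormRationalStructure ⇑q F₀ P ∧
      Cfsg.Geo.subfieldSubgroup F₀ P = Cfsg.Geo.subfieldSubgroup F₀ B⁻¹ := by
  classical
  obtain ⟨C, hCdef⟩ : ∃ C : Matrix ι ι F, C = ((B⁻¹ : GL ι F) : Matrix ι ι F) := ⟨_, rfl⟩
  have hBC : (B : Matrix ι ι F) * C = 1 := by rw [hCdef, ← Units.val_mul, mul_inv_cancel, Units.val_one]
  have hCB : C * (B : Matrix ι ι F) = 1 := by rw [hCdef, ← Units.val_mul, inv_mul_cancel, Units.val_one]
  obtain ⟨G₁, hG₁⟩ : ∃ G₁ : Matrix ι ι F, G₁ = Cᵀ * polarMat q * C := ⟨_, rfl⟩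
  have hGdet := polarMat_det hQ
  have hCdet : C.det ≠ 0 := fun h => by
    have := congrArg Matrix.det hBC
    rw [det_mul, h, mul_zero, det_one] at this
    exact zero_ne_one this
  have hG₁det : G₁.det ≠ 0 := by rw [hG₁, det_mul, det_mul, det_transpose]; simp [hGdet, hCdet]
  let A : S → Matrix ι ι F := fun s => (B : Matrix ι ι F) * (s : GL ι F).val * C
  let A' : S → Matrix ι ι F := fun s => ((B : Matrix ι ι F) * ((s : GL ι F)⁻¹).val * C)ᵀ
  have hAinv : ∀ s, A' s * (A s)ᵀ = 1 := fun s => by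
    simp only [A, A']
    rw [← transpose_mul, ← transpose_one]
    congr 1
    rw [show (B : Matrix ι ι F) * (s : GL ι F).val * C * ((B : Matrix ι ι F) * ((s : GL ι F)⁻¹).val * C) =
      (B : Matrix ι ι F) * ((s : GL ι F).val * (C * (B : Matrix ι ι F)) * ((s : GL ι F)⁻¹).val) * C by
        simp only [mul_assoc], hCB, mul_one, ← Units.val_mul, mul_inv_cancel, Units.val_one, mul_one, hBC]
  have hform : ∀ s, (A s)ᵀ * G₁ * A s = G₁ := fun s => by
    simp only [A, hG₁]
    calc ((B : Matrix ι ι F) * (s : GL ι F).val * C)ᵀ * (Cᵀ * polarMat q * C) * ((B : Matrix ι ι F) * (s : GL ι F).val * C)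
        = (C * ((B : Matrix ι ι F) * (s : GL ι F).val * C))ᵀ * polarMat q *
            (C * ((B : Matrix ι ι F) * (s : GL ι F).val * C)) := by
          simp only [transpose_mul, mul_assoc]
      _ = Cᵀ * ((s : GL ι F).valᵀ * polarMat q * (s : GL ι F).val) * C := by
          rw [show C * ((B : Matrix ι ι F) * (s : GL ι F).val * C) = (s : GL ι F).val * C by
            rw [← mul_assoc, ← mul_assoc, hCB, one_mul], transpose_mul]
          simp only [mul_assoc]
      _ = _ := by rw [polarMat_isometry q (hiso s.2)]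
  have hint : ∀ s, G₁ * A s = A' s * G₁ := fun s => by
    calc G₁ * A s = A' s * (A s)ᵀ * G₁ * A s := by rw [hAinv, one_mul]
      _ = A' s * ((A s)ᵀ * G₁ * A s) := by simp only [mul_assoc]
      _ = _ := by rw [hform]
  have hG₁u : IsUnit G₁.det := isUnit_iff_ne_zero.mpr hG₁det
  have huniq : ∀ D : Matrix ι ι F, (∀ s, D * A s = A' s * D) → ∃ c : F, D = c • G₁ := by
    intro D hD
    obtain ⟨E, hE⟩ : ∃ E, E = G₁⁻¹ * D := ⟨_, rfl⟩
    have hEA : ∀ s, E * A s = A s * E := fun s => by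
      have h1 : A s * G₁⁻¹ = G₁⁻¹ * A' s := by
        calc A s * G₁⁻¹ = G₁⁻¹ * (G₁ * A s) * G₁⁻¹ := by rw [← mul_assoc, nonsing_inv_mul G₁ hG₁u, one_mul]
          _ = G₁⁻¹ * A' s := by rw [hint, mul_assoc, mul_assoc, mul_nonsing_inv G₁ hG₁u, mul_one]
      rw [hE, mul_assoc, hD, ← mul_assoc, ← h1, mul_assoc]
    obtain ⟨c, hc⟩ := hS.scalar (M := C * E * (B : Matrix ι ι F)) fun s hs => by
      have h := congrArg (fun X => C * X * (B : Matrix ι ι F)) (hEA ⟨s, hs⟩)
      simp only [A, mul_assoc, hCB, mul_one] at h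
      simp only [← mul_assoc, hCB, one_mul] at h
      simpa only [mul_assoc] using h
    refine ⟨c, ?_⟩
    have h := congrArg (fun X => (B : Matrix ι ι F) * X * C) hc
    simp only [mul_assoc, hBC, mul_one, Matrix.smul_mul, Matrix.mul_smul] at h
    simp only [← mul_assoc, hBC, one_mul] at h
    rw [show D = G₁ * E by rw [hE, ← mul_assoc, mul_nonsing_inv G₁ hG₁u, one_mul], h, Matrix.mul_smul, mul_one]
  have hinvmem : ∀ s : S, ∀ i j, A' s i j ∈ F₀ := fun s i j => by
    simp only [A', transpose_apply, hCdef]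
    exact hB _ (S.inv_mem s.2) j i
  haveI : Nonempty ι := Fintype.card_pos_iff.mp hodd.pos
  obtain ⟨c, D, hc, hDrat, hD⟩ := exists_rat_intertwiner (A := A) (A' := A') (F₀ := F₀)
    (fun s i j => by simp only [A, hCdef]; exact hB _ s.2 i j) hinvmem (fun h => hG₁det (by rw [h]; exact det_zero))
    hint huniq
  obtain ⟨m, hm⟩ := hodd
  obtain ⟨t, ht⟩ : ∃ t, t = c ^ m / C.det := ⟨_, rfl⟩
  have ht0 : t ≠ 0 := by rw [ht]; exact div_ne_zero (pow_ne_zero _ hc) hCdet
  have hD0 : D.det ≠ 0 := fun h => hG₁det (by rw [hD, det_smul, h, mul_zero])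
  have hkey : t ^ 2 * c ∈ F₀ := by
    have h1 : C.det ^ 2 * (polarMat q).det = (c ^ m) ^ 2 * c * D.det := by
      have := congrArg Matrix.det hD
      rw [det_smul, hm, hG₁, det_mul, det_mul, det_transpose] at this
      linear_combination this
    have h2' : t ^ 2 * c = (polarMat q).det / D.det := by
      rw [ht, div_pow]
      field_simp
      linear_combination -h1
    rw [h2']
    exact F₀.div_mem (det_mem_subfield hstd) (det_mem_subfield hDrat)
  refine ⟨B⁻¹ * Units.map (Matrix.scalar ι : F →+* Matrix ι ι F).toMonoidHom (Units.mk0 t ht0), fun u hu => ?_,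
    smul_conj_mem⟩
  have hval : ((B⁻¹ * Units.map (Matrix.scalar ι : F →+* Matrix ι ι F).toMonoidHom (Units.mk0 t ht0) : GL ι F) :
      Matrix ι ι F) *ᵥ u = t • (C *ᵥ u) := by
    rw [Units.val_mul, hCdef, ← mulVec_mulVec]
    change _ *ᵥ (Matrix.scalar ι t *ᵥ u) = _
    rw [show (Matrix.scalar ι) t *ᵥ u = t • u by simp [← Matrix.smul_one_eq_diagonal, Matrix.smul_mulVec],
      mulVec_smul]
  rw [hval, CfsgLib.Classical.quad_smul]
  have hpol : QuadraticMap.polar ⇑q (C *ᵥ u) (C *ᵥ u) = c * (u ⬝ᵥ (D *ᵥ u)) := by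
    rw [(IsSesq.of_bilinear (polar_bilin q)).eq_gram]
    change (C *ᵥ u) ⬝ᵥ (polarMat q *ᵥ (C *ᵥ u)) = _
    rw [← smul_eq_mul, ← dotProduct_smul, ← smul_mulVec, ← hD, hG₁, ← mulVec_mulVec, ← mulVec_mulVec,
      dotProduct_mulVec u, vecMul_transpose]
  have hq : q (C *ᵥ u) = c * (u ⬝ᵥ (D *ᵥ u)) / 2 := by
    rw [← hpol, CfsgLib.Classical.quad_polar_self]
    field_simp
  rw [hq, show t * t * (c * (u ⬝ᵥ D *ᵥ u) / 2) = (t ^ 2 * c) * (u ⬝ᵥ D *ᵥ u) / 2 by ring]
  refine F₀.div_mem (F₀.mul_mem hkey (sum_mem fun i _ => F₀.mul_mem (hu i) (sum_mem fun j _ =>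
    F₀.mul_mem (hDrat i j) (hu j)))) ?_
  exact_mod_cast (natCast_mem F₀ 2)

/-- An absolutely irreducible group of isometries that also fixes a hermitian form is realisable over a proper
subfield. -/
theorem realisable_of_unitary {q : QuadraticForm F (ι → F)} (hQ : CfsgLib.Classical.PolarNondeg q)
    (hodd : Odd (Fintype.card ι)) {S : Subgroup (GL ι F)} (hS : AbsIrr S) (hiso : S ≤ Cfsg.isometryGroup F ⇑q)
    {σ : F ≃+* F} {f : (ι → F) → (ι → F) → F} (hf : Cfsg.Geo.IsUnitaryForm σ f)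
    (hfix : Cfsg.Geo.FixesForm (Cfsg.Geo.matrixSet S) f) :
    ∃ F₀ : Subfield F, F₀ ≠ ⊤ ∧ Cfsg.Geo.RealisableOver F₀ (Cfsg.Geo.matrixSet S) := by
  classical
  obtain ⟨G, hG⟩ : ∃ G, G = polarMat q := ⟨_, rfl⟩
  obtain ⟨U, hU⟩ : ∃ U, U = Cfsg.Geo.gramMatrix f := ⟨_, rfl⟩
  have hGu : IsUnit G.det := isUnit_iff_ne_zero.mpr (hG ▸ polarMat_det hQ)
  have hUdet : U.det ≠ 0 := hU ▸ (IsSesq.of_unitary hf).gram_det_ne_zero hf.nondegenerate
  obtain ⟨C, hC⟩ : ∃ C, C = G⁻¹ * U := ⟨_, rfl⟩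
  have hCdet : C.det ≠ 0 := by
    rw [hC, det_mul]
    exact mul_ne_zero ((Matrix.isUnit_nonsing_inv_det G hGu).ne_zero) hUdet
  have hmap_mul : ∀ X Y : Matrix ι ι F, (X * Y).map σ = X.map σ * Y.map σ := fun X Y => Matrix.map_mul
  have hmap_inv : ∀ X : Matrix ι ι F, (X.map σ).map σ = X := fun X => Matrix.ext fun i j => hf.involutive _
  have hcomm : ∀ s ∈ S, C * (s : Matrix ι ι F).map σ = (s : Matrix ι ι F) * C := fun s hs => by
    have h1 : (s : Matrix ι ι F)ᵀ * G * (s : Matrix ι ι F) = G := hG ▸ polarMat_isometry q (hiso hs)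
    have h2 : (s : Matrix ι ι F)ᵀ * U * (s : Matrix ι ι F).map σ = U := by
      rw [hU, ← (IsSesq.of_unitary hf).gram_comp]
      exact congrArg Cfsg.Geo.gramMatrix (funext fun u => funext fun v => hfix _ ⟨s, hs, rfl⟩ u v)
    obtain ⟨M, hM⟩ : ∃ M, M = (s : Matrix ι ι F)ᵀ * G := ⟨_, rfl⟩
    have hst : IsUnit (s : Matrix ι ι F)ᵀ.det :=
      (Matrix.det_transpose (s : Matrix ι ι F)).symm ▸ (Matrix.GeneralLinearGroup.det s).isUnit
    have hMu : IsUnit M.det := by rw [hM, det_mul]; exact hst.mul hGu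
    have e1 : M * (C * (s : Matrix ι ι F).map σ) = U := by
      calc M * (C * (s : Matrix ι ι F).map σ)
          = (s : Matrix ι ι F)ᵀ * (G * G⁻¹) * U * (s : Matrix ι ι F).map σ := by rw [hM, hC]; simp only [mul_assoc]
        _ = U := by rw [mul_nonsing_inv G hGu, mul_one, h2]
    have e2 : M * ((s : Matrix ι ι F) * C) = U := by
      calc M * ((s : Matrix ι ι F) * C) = ((s : Matrix ι ι F)ᵀ * G * (s : Matrix ι ι F)) * G⁻¹ * U := by
            rw [hM, hC]; simp only [mul_assoc]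
        _ = U := by rw [h1, mul_nonsing_inv G hGu, one_mul]
    calc C * (s : Matrix ι ι F).map σ = M⁻¹ * (M * (C * (s : Matrix ι ι F).map σ)) := by
          rw [← mul_assoc M⁻¹, nonsing_inv_mul M hMu, one_mul]
      _ = M⁻¹ * (M * ((s : Matrix ι ι F) * C)) := by rw [e1, e2]
      _ = _ := by rw [← mul_assoc M⁻¹, nonsing_inv_mul M hMu, one_mul]
  obtain ⟨l, hl⟩ := hS.scalar (M := C * C.map σ) fun s hs => by
    have h1 := congrArg (fun X : Matrix ι ι F => C * X.map σ) (hcomm s hs)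
    simp only [hmap_mul, hmap_inv] at h1
    rw [mul_assoc, h1, ← mul_assoc, hcomm s hs, mul_assoc]
  obtain ⟨d, hd⟩ : ∃ d, d = C.det := ⟨_, rfl⟩
  obtain ⟨m, hm⟩ := hodd
  have hln : d * σ d = l ^ (2 * m + 1) := by
    have h := congrArg Matrix.det hl
    rw [det_mul, det_smul, det_one, mul_one, hm] at h
    rw [← h, hd, show (C.map σ).det = σ C.det from (σ.toRingHom.map_det _).symm]
  have hl0 : l ≠ 0 := by
    rintro rfl
    rw [zero_pow (by omega), mul_eq_zero, RingEquiv.map_eq_zero_iff, or_self, hd] at hln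
    exact hCdet hln
  have hlfix : σ l = l := by
    have h := congrArg σ hln
    rw [map_mul, hf.involutive, map_pow, mul_comm, hln] at h
    have h2 : C.map σ * C = l • (1 : Matrix ι ι F) := by
      have hu : IsUnit C.det := isUnit_iff_ne_zero.mpr hCdet
      calc C.map σ * C = C⁻¹ * (C * C.map σ) * C := by rw [← mul_assoc C⁻¹, nonsing_inv_mul C hu, one_mul]
        _ = _ := by rw [hl, Matrix.mul_smul, mul_one, Matrix.smul_mul, nonsing_inv_mul C hu]
    have h3 := congrArg (fun X : Matrix ι ι F => X.map σ) h2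
    simp only [hmap_mul, hmap_inv, hl] at h3
    obtain ⟨i⟩ : Nonempty ι := Fintype.card_pos_iff.mp (by omega)
    have h4 := congrFun (congrFun h3 i) i
    simpa using h4.symm
  obtain ⟨μ, hμ⟩ : ∃ μ, μ = l ^ m / d := ⟨_, rfl⟩
  have hd0 : d ≠ 0 := hd ▸ hCdet
  have hμl : μ * σ μ * l = 1 := by
    rw [hμ, map_div₀, map_pow, hlfix, div_mul_div_comm, hln, ← pow_add, div_mul_eq_mul_div, ← pow_succ,
      ← two_mul, div_self (pow_ne_zero _ hl0)]
  obtain ⟨T, hT⟩ : ∃ T : (ι → F) → ι → F, T = fun v => μ • (C *ᵥ (σ ∘ v)) := ⟨_, rfl⟩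
  have hσvec : ∀ (X : Matrix ι ι F) (v : ι → F), σ ∘ (X *ᵥ v) = X.map σ *ᵥ (σ ∘ v) := fun X v => by
    funext i
    simp [mulVec, dotProduct, map_sum]
  have hσsmul : ∀ (a : F) (v : ι → F), σ ∘ (a • v) = σ a • (σ ∘ v) := fun a v => by funext i; simp
  have hTT : ∀ v, T (T v) = v := fun v => by
    have hv : σ ∘ σ ∘ v = v := funext fun i => hf.involutive _
    simp only [hT, hσsmul, hσvec, hv, mulVec_smul, mulVec_mulVec, hl, Matrix.smul_mulVec, one_mulVec, smul_smul,
      ← mul_assoc, hμl, one_smul]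
  have hTadd : ∀ v w, T (v + w) = T v + T w := fun v w => by
    simp only [hT, show σ ∘ (v + w) = σ ∘ v + σ ∘ w by funext i; simp, mulVec_add, smul_add]
  have hTsmul : ∀ (a : F) (v : ι → F), T (a • v) = σ a • T v := fun a v => by
    simp only [hT, hσsmul, mulVec_smul, smul_comm μ (σ a)]
  obtain ⟨α, hα⟩ : ∃ α : F, σ α ≠ α := by
    by_contra h
    push Not at h
    exact hf.ne_refl (RingEquiv.ext h)
  have hspan : Submodule.span F {w : ι → F | T w = w} = ⊤ := by
    rw [eq_top_iff]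
    intro v _
    have h1 : v + T v ∈ {w : ι → F | T w = w} := by
      change T (v + T v) = v + T v
      rw [hTadd, hTT, add_comm]
    have h2 : α • v + σ α • T v ∈ {w : ι → F | T w = w} := by
      change T (α • v + σ α • T v) = _
      rw [hTadd, hTsmul, hTsmul, hTT, hf.involutive, add_comm]
    have h3 : α • v + σ α • T v - σ α • (v + T v) = (α - σ α) • v := by module
    have h4 := Submodule.sub_mem (Submodule.span F {w : ι → F | T w = w}) (Submodule.subset_span h2)
      (Submodule.smul_mem _ (σ α) (Submodule.subset_span h1))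
    rw [h3] at h4
    exact (Submodule.smul_mem_iff _ (sub_ne_zero.2 (Ne.symm hα))).1 h4
  obtain ⟨b, hbT, hbspan, hbli⟩ := exists_linearIndependent F {w : ι → F | T w = w}
  have hbtop : ⊤ ≤ Submodule.span F (Set.range ((↑) : b → ι → F)) := by
    rw [Subtype.range_coe, hbspan, hspan]
  let β := Module.Basis.mk hbli hbtop
  let e : b ≃ ι := β.indexEquiv (Pi.basisFun F ι)
  let X : Matrix ι ι F := Matrix.of fun i j => (e.symm j : ι → F) i
  have hXdet : IsUnit X.det := by
    rw [← Matrix.isUnit_iff_isUnit_det, ← Matrix.linearIndependent_cols_iff_isUnit]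
    exact hbli.comp _ e.symm.injective
  have hXfix : μ • (C * X.map σ) = X := by
    refine Matrix.ext fun i j => ?_
    have h := congrFun (show T (e.symm j : ι → F) = _ from hbT (e.symm j).2) i
    rw [hT] at h
    simpa [Matrix.mul_apply, mulVec, dotProduct, X] using h
  let B : GL ι F := Matrix.GeneralLinearGroup.mk'' X hXdet
  refine ⟨(σ.toRingHom.eqLocusField (RingHom.id F)), ?_, B⁻¹, ?_⟩
  · intro h
    apply hα
    have : α ∈ σ.toRingHom.eqLocusField (RingHom.id F) := by rw [h]; trivial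
    exact this
  rintro _ ⟨s, hs, rfl⟩ i j
  obtain ⟨Y, hY⟩ : ∃ Y, Y = ((B⁻¹ : GL ι F) : Matrix ι ι F) * (s : Matrix ι ι F) * X := ⟨_, rfl⟩
  have hXY : X * Y = (s : Matrix ι ι F) * X := by
    rw [hY, ← mul_assoc, ← mul_assoc, show X * ((B⁻¹ : GL ι F) : Matrix ι ι F) = 1 from B.mul_inv, one_mul]
  have hYfix : Y.map σ = Y := by
    have h1 : μ • (C * (X * Y).map σ) = X * Y.map σ := by
      rw [hmap_mul, ← mul_assoc, ← Matrix.smul_mul, hXfix]
    rw [hXY, hmap_mul, ← mul_assoc, hcomm s hs, mul_assoc, ← Matrix.mul_smul, hXfix, ← hXY] at h1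
    calc Y.map σ = X⁻¹ * (X * Y.map σ) := by rw [← mul_assoc, nonsing_inv_mul X hXdet, one_mul]
      _ = Y := by rw [← h1, ← mul_assoc, nonsing_inv_mul X hXdet, one_mul]
  change σ ((((B⁻¹ : GL ι F) : Matrix ι ι F) * (s : Matrix ι ι F) * (((B⁻¹)⁻¹ : GL ι F) : Matrix ι ι F)) i j) = _
  rw [inv_inv, show ((B : GL ι F) : Matrix ι ι F) = X from rfl, ← hY]
  exact congrFun (congrFun hYfix i) j

end CfsgLib.Techniques.AschOmega
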