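/-
Maximal subgroups of `omegaGL` of a quadratic form in odd prime dimension.
-/
import Cfsg.Agent.Lib.Techniques.AschPrime.Cases
import Cfsg.Agent.Lib.Techniques.AschPrime.SL
import Cfsg.Agent.Lib.Techniques.AschOmega.Rational
import Cfsg.Agent.Lib.Techniques.AschOmega.Lines

set_option autoImplicit false

namespace CfsgLib.Techniques.AschOmega

open Matrix CfsgLib.Techniques.AschPrime CfsgLib.Classical CfsgLib.Classical22
open scoped MatrixGroups commutatorElement

variable {F : Type*} [Field F] {ι : Type} [Fintype ι] [DecidableEq ι]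

theorem det_zero_of_skew {M : Matrix ι ι F} (hodd : Odd (Fintype.card ι)) (h2 : (2 : F) ≠ 0)
    (h : Mᵀ = -M) : M.det = 0 := by
  have h1 := congrArg Matrix.det h
  rw [det_transpose, det_neg, hodd.neg_one_pow, neg_one_mul] at h1
  exact (mul_eq_zero.1 (show (2 : F) * M.det = 0 by linear_combination h1)).resolve_left h2

/-- A group of isometries in odd dimension generating a field of full degree is scalar. -/
theorem le_scalars_of_field [Finite F] [Nonempty ι] {q : QuadraticForm F (ι → F)} (hQ : PolarNondeg q) (h2 : (2 : F) ≠ 0)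
    (hodd : Odd (Fintype.card ι)) {A : Subgroup (GL ι F)} (hA : A ≤ Cfsg.isometryGroup F ⇑q)
    (hK : Cfsg.Geo.IsFieldSubalgebra (Fintype.card ι) (cent A)) : A ≤ Cfsg.Geo.scalars ι F := by
  intro a ha
  have hmem : ∀ x ∈ A, (x : Matrix ι ι F) ∈ cent A := fun x hx =>
    mem_of_commute_field hK fun k hk => mem_cent.mp hk x hx
  obtain ⟨G, hG⟩ : ∃ G, G = polarMat q := ⟨_, rfl⟩
  have hGd : G.det ≠ 0 := hG ▸ polarMat_det hQ
  have hGt : Gᵀ = G := hG ▸ polarMat_symm q
  have hiso := polarMat_isometry q (hA ha)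
  rw [← hG] at hiso
  have h1 : G * ((a⁻¹ : GL ι F) : Matrix ι ι F) = (a : Matrix ι ι F)ᵀ * G := by
    conv_lhs => rw [← hiso]
    rw [mul_assoc ((a : Matrix ι ι F)ᵀ * G), ← Units.val_mul, mul_inv_cancel, Units.val_one, mul_one]
  obtain ⟨y, hy⟩ : ∃ y, y = (a : Matrix ι ι F) - ((a⁻¹ : GL ι F) : Matrix ι ι F) := ⟨_, rfl⟩
  have hyK : y ∈ cent A := hy ▸ (cent A).sub_mem (hmem a ha) (hmem _ (A.inv_mem ha))
  have hskew : (G * y)ᵀ = -(G * y) := by
    rw [hy, transpose_mul, transpose_sub, hGt, sub_mul, mul_sub, neg_sub]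
    congr 1
    · exact h1.symm
    · have h3 := congrArg Matrix.transpose h1
      rwa [transpose_mul, transpose_mul, transpose_transpose, hGt] at h3
  have hy0 : y = 0 := by
    by_contra hne
    obtain ⟨z, -, hz⟩ := hK.inv y hyK hne
    have h3 := congrArg Matrix.det hz
    rw [det_mul, det_one] at h3
    have h4 := det_zero_of_skew hodd h2 hskew
    rw [det_mul] at h4
    rw [(mul_eq_zero.1 h4).resolve_left hGd, zero_mul] at h3
    exact zero_ne_one h3
  have haa : (a : Matrix ι ι F) * (a : Matrix ι ι F) = 1 := by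
    rw [hy, sub_eq_zero] at hy0
    conv_lhs => arg 2; rw [hy0]
    rw [← Units.val_mul, mul_inv_cancel, Units.val_one]
  by_cases hp : (a : Matrix ι ι F) = 1
  · exact mem_scalars_of_eq_smul (c := 1) (by rw [hp, one_smul])
  obtain ⟨z, hz, hzy⟩ := hK.inv _ ((cent A).sub_mem (hmem a ha) (cent A).one_mem) (sub_ne_zero.2 hp)
  rw [hK.comm _ ((cent A).sub_mem (hmem a ha) (cent A).one_mem) z hz] at hzy
  refine mem_scalars_of_eq_smul (c := -1) ?_
  have h3 : (a : Matrix ι ι F) + 1 = 0 := by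
    calc (a : Matrix ι ι F) + 1 = z * ((a : Matrix ι ι F) - 1) * ((a : Matrix ι ι F) + 1) := by rw [hzy, one_mul]
      _ = z * ((a : Matrix ι ι F) * (a : Matrix ι ι F) - 1) := by noncomm_ring
      _ = 0 := by rw [haa, sub_self, mul_zero]
  rw [neg_one_smul]
  exact eq_neg_of_add_eq_zero_left h3

/-- No group of isometries in odd dimension supports extraspecial data. -/
theorem not_extraData [Finite F] (hp : (Fintype.card ι).Prime) (hodd : Odd (Fintype.card ι))
    {q : QuadraticForm F (ι → F)} (hQ : PolarNondeg q) {H R : Subgroup (GL ι F)}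
    (hH : H ≤ Cfsg.isometryGroup F ⇑q) (hR : ExtraData H R) : False := by
  classical
  haveI : Nonempty ι := Fintype.card_pos_iff.mp hp.pos
  haveI : Fact (Fintype.card ι).Prime := ⟨hp⟩
  have hquot : Nat.card (R ⧸ Subgroup.center R) = Fintype.card ι ^ 2 := by
    have h := Subgroup.card_eq_card_quotient_mul_card_subgroup (Subgroup.center R)
    rw [hR.card_eq, hR.card_center] at h
    exact Nat.eq_of_mul_eq_mul_right hp.pos (by linear_combination -h)
  haveI := IsPGroup.isMulCommutative_of_card_eq_prime_sq hquot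
  obtain ⟨a, b, hab⟩ : ∃ a b : R, a * b ≠ b * a := by
    by_contra hno
    push Not at hno
    have htop : Subgroup.center R = ⊤ := eq_top_iff.2 fun x _ => Subgroup.mem_center_iff.2 fun y => hno y x
    have h := hR.card_center
    rw [htop, Nat.card_congr Subgroup.topEquiv.toEquiv, hR.card_eq] at h
    exact absurd ((Nat.pow_eq_self_iff hp.one_lt).mp h) (by norm_num)
  have hc : ⁅a, b⁆ ∈ (QuotientGroup.mk' (Subgroup.center R)).ker := by
    rw [MonoidHom.mem_ker, map_commutatorElement, commutatorElement_eq_one_iff_mul_comm]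
    exact Std.Commutative.comm _ _
  rw [QuotientGroup.ker_mk'] at hc
  obtain ⟨k, hk⟩ : ∃ k : GL ι F, k = ((⁅a, b⁆ : R) : GL ι F) := ⟨_, rfl⟩
  have hksc : k ∈ Cfsg.Geo.scalars ι F := hk ▸ hR.absIrr.mem_scalars fun s hs =>
    (congrArg Subtype.val (Subgroup.mem_center_iff.1 hc ⟨s, hs⟩)).symm
  have hkiso : k ∈ Cfsg.isometryGroup F ⇑q := by
    obtain ⟨h₁, hh₁, c₁, hc₁, e₁⟩ := Subgroup.mem_sup_of_normal_right.1 (hR.le a.2)
    obtain ⟨h₂, hh₂, c₂, hc₂, e₂⟩ := Subgroup.mem_sup_of_normal_right.1 (hR.le b.2)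
    have e : k = ⁅h₁, h₂⁆ := by
      rw [hk, show ((⁅a, b⁆ : R) : GL ι F) = ⁅(a : GL ι F), (b : GL ι F)⁆ from rfl, ← e₁, ← e₂]
      have s₁ := scalars_comm hc₁
      have s₂ := scalars_comm hc₂
      calc ⁅h₁ * c₁, h₂ * c₂⁆ = h₁ * (c₁ * h₂) * c₂ * c₁⁻¹ * h₁⁻¹ * c₂⁻¹ * h₂⁻¹ := by
            simp only [commutatorElement_def]; group
        _ = h₁ * h₂ * (c₁ * c₂ * c₁⁻¹) * h₁⁻¹ * c₂⁻¹ * h₂⁻¹ := by rw [s₁ h₂]; group
        _ = h₁ * h₂ * c₂ * h₁⁻¹ * c₂⁻¹ * h₂⁻¹ := by rw [s₁ c₂]; group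
        _ = h₁ * h₂ * (h₁⁻¹ * c₂) * c₂⁻¹ * h₂⁻¹ := by rw [← s₂ h₁⁻¹]; group
        _ = _ := by simp only [commutatorElement_def]; group
    rw [e, commutatorElement_def]
    exact Subgroup.mul_mem _ (Subgroup.mul_mem _ (Subgroup.mul_mem _ (hH hh₁) (hH hh₂))
      (Subgroup.inv_mem _ (hH hh₁))) (Subgroup.inv_mem _ (hH hh₂))
  have hkn : k ^ Fintype.card ι = 1 := hk ▸ hR.pow_eq_one _ (⁅a, b⁆ : R).2
  obtain ⟨c, hc'⟩ := (Cfsg.Geo.mem_scalars_iff k).mp hksc
  have hc2 : (c : F) * c = 1 := by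
    have h := polarMat_isometry q hkiso
    rw [hc', transpose_smul, transpose_one, Matrix.smul_mul, one_mul, Matrix.mul_smul, mul_one, smul_smul] at h
    exact smul_left_injective F (fun h0 => polarMat_det hQ (by rw [h0]; exact det_zero))
      (h.trans (one_smul F _).symm)
  have hcn : (c : F) ^ Fintype.card ι = 1 := by
    have h := congrArg (fun g : GL ι F => (g : Matrix ι ι F)) hkn
    rw [Units.val_pow_eq_pow_val, hc', smul_pow, one_pow, Units.val_one] at h
    exact smul_left_injective F (one_ne_zero (α := Matrix ι ι F)) (h.trans (one_smul F _).symm)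
  obtain ⟨m, hm⟩ := hodd
  rw [hm, pow_succ, pow_mul, sq, hc2, one_pow, one_mul] at hcn
  apply hab
  rw [← commutatorElement_eq_one_iff_mul_comm]
  refine Subtype.ext (Units.ext ?_)
  rw [← hk, hc', hcn, one_smul]
  rfl

variable [Fintype F]

/-- The maximal subgroups. -/
theorem omega_max {n : ℕ} (hn : Fintype.card ι = n) (hp : n.Prime) (hn7 : 7 ≤ n) (q : QuadraticForm F (ι → F))
    (hQ : PolarNondeg q) (h2 : (2 : F) ≠ 0) (hstd : ∀ (F₀ : Subfield F) (i j : ι), polarMat q i j ∈ F₀)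
    {H : Subgroup (GL ι F)} (hH : Cfsg.Geo.IsMaximalIn (Cfsg.Geo.omegaGL ⇑q) H) :
    (∃ W : Submodule F (ι → F), W ≠ ⊥ ∧ Cfsg.Geo.IsTotallySingularQuad ⇑q W ∧
      H = Cfsg.Geo.subspaceStabilizer W ⊓ Cfsg.Geo.omegaGL ⇑q) ∨
    (∃ W : Submodule F (ι → F), W ≠ ⊥ ∧ Even (Module.finrank F W) ∧
      Cfsg.Geo.IsNondegenerateOn (QuadraticMap.polar ⇑q) W ∧
      ¬ (Fintype.card F = 3 ∧ Module.finrank F W = 2 ∧ Cfsg.Geo.IsPlusTypeOn ⇑q W) ∧
      H = Cfsg.Geo.subspaceStabilizer W ⊓ Cfsg.Geo.omegaGL ⇑q) ∨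
    ((Fintype.card F).Prime ∧ ∃ D : Fin n → Submodule F (ι → F), Cfsg.Geo.IsOrthogonalMDecomposition ⇑q 1 D ∧
      H = Cfsg.Geo.decompositionStabilizer D ⊓ Cfsg.Geo.omegaGL ⇑q) ∨
    (∃ (F₀ : Subfield F) (r : ℕ) (P : GL ι F), r.Prime ∧ Fintype.card F = Nat.card F₀ ^ r ∧
      Cfsg.Geo.IsQuadFormRationalStructure ⇑q F₀ P ∧
      H = Cfsg.Geo.subfieldSubgroup F₀ P ⊓ Cfsg.Geo.omegaGL ⇑q) ∨
    Cfsg.Geo.InOrthogonalResidualClass H := by
  classical
  have hodd : Odd n := hp.odd_of_ne_two (by omega)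
  have hV : Module.finrank F (ι → F) = n := (Module.finrank_pi F).trans hn
  haveI : Nonempty ι := Fintype.card_pos_iff.mp (by omega)
  have hiso : H ≤ Cfsg.isometryGroup F ⇑q := hH.1.le.trans (omega_le_isometry _)
  have hdet : H ≤ Cfsg.Geo.specialLinear ι F := hH.1.le.trans (omega_le_special _)
  have hmem : ∀ W : Submodule F (ι → F), Inv H W → H ≤ Cfsg.Geo.subspaceStabilizer W :=
    fun W hW h hh => CfsgLib.Transvec.mem_subspaceStabilizer_of_maps (hW h hh)
  have mkW : ∀ W : Submodule F (ι → F), W ≠ ⊥ → W ≠ ⊤ → Inv H W →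
      H = Cfsg.Geo.subspaceStabilizer W ⊓ Cfsg.Geo.omegaGL ⇑q := fun W h0 h1 hW =>
    eq_inf_of_le hH (hmem W hW) (not_omega_le_subspace q hQ (by omega) h0 h1)
  have hnd : ∀ W : Submodule F (ι → F), NdOn q W → Cfsg.Geo.IsNondegenerateOn (QuadraticMap.polar ⇑q) W := by
    intro W hW w hw hw0
    obtain ⟨x, hx, hwx⟩ : ∃ x ∈ W, QuadraticMap.polar q w x ≠ 0 := by
      by_contra hno
      push Not at hno
      exact hw0 (hW w hw hno)
    exact ⟨⟨x, hx, by rwa [QuadraticMap.polar_comm]⟩, ⟨x, hx, hwx⟩⟩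
  have hperp : ∀ W : Submodule F (ι → F), Inv H W → Inv H (qPerp q W) := fun W hW h hh x hx =>
    (mem_qPerp q).2 fun w hw => by
      have h1 := polar_isometry (hiso (H.inv_mem hh)) w ((h : Matrix ι ι F) *ᵥ x)
      rw [← mulVec_mul, inv_mul_cancel, Units.val_one, one_mulVec] at h1
      rw [← h1]
      exact (mem_qPerp q).1 hx _ (hW h⁻¹ (H.inv_mem hh) w hw)
  by_cases hirr : Irr H
  swap
  · -- a reducible subgroup
    rw [irr_iff] at hirr
    push Not at hirr
    obtain ⟨W, hW, hW0, hW1⟩ := hirr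
    by_cases hR : W ⊓ qPerp q W = ⊥
    swap
    · have hRi : Inv H (W ⊓ qPerp q W) := fun h hh x hx => ⟨hW h hh x hx.1, hperp W hW h hh x hx.2⟩
      have hsing : ∀ x ∈ W ⊓ qPerp q W, q x = 0 := fun x hx => by
        have h1 := (mem_qPerp q).1 hx.2 x hx.1
        rw [quad_polar_self] at h1
        exact (mul_eq_zero.1 h1).resolve_left h2
      refine Or.inl ⟨_, hR, hsing, mkW _ hR (fun h => ?_) hRi⟩
      have h1 := two_mul_finrank_singular q hQ hsing
      rw [h, finrank_top, hV] at h1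
      omega
    have hWnd : NdOn q W := fun x hx h => (Submodule.eq_bot_iff _).1 hR x
      ⟨hx, (mem_qPerp q).2 fun w hw => (QuadraticMap.polar_comm q w x).trans (h w hw)⟩
    -- the even member of the pair
    obtain ⟨U, hUnd, hUi, hU0, hUe⟩ : ∃ U, NdOn q U ∧ Inv H U ∧ U ≠ ⊥ ∧ Even (Module.finrank F U) := by
      rcases Nat.even_or_odd (Module.finrank F W) with he | ho
      · exact ⟨W, hWnd, hW, hW0, he⟩
      refine ⟨qPerp q W, ndOn_qPerp q hQ hWnd, hperp W hW, fun h => hW1 ?_, ?_⟩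
      · refine Submodule.eq_top_of_finrank_eq ?_
        have h1 := finrank_qPerp q hQ W
        rw [h, finrank_bot] at h1
        have := Submodule.finrank_le W
        omega
      · rw [finrank_qPerp q hQ, hV]
        exact Nat.Odd.sub_odd hodd ho
    have hU1 : U ≠ ⊤ := fun h => by
      rw [h, finrank_top, hV] at hUe
      exact Nat.not_even_iff_odd.2 hodd hUe
    by_cases hexc : Fintype.card F = 3 ∧ Module.finrank F U = 2 ∧ Cfsg.Geo.IsPlusTypeOn ⇑q U
    swap
    · exact Or.inr (Or.inl ⟨U, hU0, hUe, hnd U hUnd, hexc, mkW U hU0 hU1 hUi⟩)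
    -- a hyperbolic plane over three elements: the perp of the line of value one
    obtain ⟨a, haU, hqa, hline⟩ := exists_line_of_plane q hexc.1 hexc.2.1 (hnd U hUnd) hexc.2.2
    obtain ⟨A, hA⟩ : ∃ A, A = Submodule.span F {a} := ⟨_, rfl⟩
    have ha0 : a ≠ 0 := fun h => zero_ne_one (α := F) (by rw [← hqa, h, map_zero])
    have hAnd : NdOn q A := by
      rw [hA]
      intro x hx h
      obtain ⟨c, rfl⟩ := Submodule.mem_span_singleton.1 hx
      have h1 := h a (Submodule.mem_span_singleton_self a)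
      rw [QuadraticMap.polar_smul_left, quad_polar_self, hqa, mul_one, smul_eq_mul, mul_eq_zero] at h1
      rw [h1.resolve_right h2, zero_smul]
    have hAi : Inv H A := by
      rw [hA]
      intro h hh x hx
      obtain ⟨c, rfl⟩ := Submodule.mem_span_singleton.1 hx
      rw [mulVec_smul]
      exact Submodule.smul_mem _ _ (hline _ (hUi h hh a haU) ((map_isometry (hiso hh) a).trans hqa))
    have hd : Module.finrank F (qPerp q A) = n - 1 := by
      rw [finrank_qPerp q hQ, hV, hA, finrank_span_singleton ha0]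
    obtain ⟨m, hm⟩ := hodd
    refine Or.inr (Or.inl ⟨qPerp q A, fun h => ?_, ?_, hnd _ (ndOn_qPerp q hQ hAnd), fun h => ?_,
      mkW _ (fun h => ?_) (fun h => ?_) (hperp A hAi)⟩)
    · rw [h, finrank_bot] at hd; omega
    · exact ⟨m, by omega⟩
    · omega
    · rw [h, finrank_bot] at hd; omega
    · rw [h, finrank_top, hV] at hd; omega
  have mkSub : ∀ (F₀ : Subfield F) (r : ℕ) (B : GL ι F), r.Prime → Fintype.card F = Nat.card F₀ ^ r →
      ∀ S : Subgroup (GL ι F), AbsIrr S → S ≤ H → NormalisedBy H S →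
      (∀ s ∈ S, ∀ i j, ((B : Matrix ι ι F) * (s : Matrix ι ι F) * ((B⁻¹ : GL ι F) : Matrix ι ι F)) i j ∈ F₀) →
      ∃ (F₀ : Subfield F) (r : ℕ) (P : GL ι F), r.Prime ∧ Fintype.card F = Nat.card F₀ ^ r ∧
        Cfsg.Geo.IsQuadFormRationalStructure ⇑q F₀ P ∧
        H = Cfsg.Geo.subfieldSubgroup F₀ P ⊓ Cfsg.Geo.omegaGL ⇑q := by
    intro F₀ r B hr hcard S hS hSH hSn hrat
    obtain ⟨P, hP, hPeq⟩ := exists_rational_structure hQ h2 (hn ▸ hodd) (hstd F₀) hS (hSH.trans hiso) hrat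
    refine ⟨F₀, r, P, hr, hcard, hP, eq_inf_of_le hH
      (fun h hh => hPeq ▸ mem_subfieldSubgroup_of_normalises hS hrat (hSn h hh))
      (not_omega_le_subfield q hQ (by omega) (OrthSubfield.eq_top_of_prime_degree F₀ hr hcard).1 hP)⟩
  subst hn
  rcases cases_prime hp hodd hirr hdet with ⟨A, D, hAH, hAn, hAs, hD, hst, χ, hχ⟩ | ⟨A, hAH, -, hAs, hK, -⟩ |
    ⟨R, hR⟩ | ⟨P, hP⟩
  · -- orthogonal lines
    obtain ⟨hDo, habs, B, hB⟩ := lines_orthogonal rfl hp hodd hQ h2 hirr hiso hAH hAn hAs hD hst hχ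
    by_cases hq : (Fintype.card F).Prime
    · exact Or.inr (Or.inr (Or.inl ⟨hq, D, hDo, eq_inf_of_le hH hst (not_omega_le_lines q hQ (by omega) hDo)⟩))
    have hbot : (⊥ : Subfield F) ≠ ⊤ := by
      intro h
      obtain ⟨p, _⟩ := CharP.exists F
      haveI : Fact p.Prime := ⟨CharP.char_is_prime F p⟩
      apply hq
      have h1 : Nat.card (⊥ : Subfield F) = Fintype.card F := by
        rw [← Nat.card_eq_fintype_card]
        exact Nat.card_congr (Equiv.subtypeUnivEquiv fun x => by rw [h]; trivial)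
      rw [← h1, Subfield.card_bot F p]
      exact CharP.char_is_prime F p
    obtain ⟨F₁, r, hr, hcard, -⟩ := exists_prime_index ⊥ hbot
    refine Or.inr (Or.inr (Or.inr (Or.inl (mkSub F₁ r B hr hcard H habs le_rfl
      (fun h hh x hx => H.mul_mem (H.mul_mem hh hx) (H.inv_mem hh)) fun s hs i j => ?_))))
    rcases hB s hs i j with h | h | h <;> rw [h]
    · exact F₁.zero_mem
    · exact F₁.one_mem
    · exact F₁.neg_mem F₁.one_mem
  · exact absurd (le_scalars_of_field hQ h2 hodd (hAH.trans hiso) hK) hAs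
  · exact (not_extraData hp hodd hQ hiso hR).elim
  · -- a simple socle
    by_cases hsub : ∃ F₀ : Subfield F, F₀ ≠ ⊤ ∧ Cfsg.Geo.RealisableOver F₀ (Cfsg.Geo.matrixSet P)
    · obtain ⟨F₀, hF₀, B, hB⟩ := hsub
      obtain ⟨F₁, r, hr, hcard, hle⟩ := exists_prime_index F₀ hF₀
      exact Or.inr (Or.inr (Or.inr (Or.inl (mkSub F₁ r B hr hcard P hP.absIrred hP.le hP.normal
        fun s hs i j => hle (hB _ ⟨s, hs, rfl⟩ i j)))))
    push Not at hsub
    refine Or.inr (Or.inr (Or.inr (Or.inr ⟨P, ⟨hP.le, hP.normal, hP.perfect, hP.simple, hP.nonabelian,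
      hP.centralizer_scalar, hP.absIrred, hsub⟩, ?_⟩)))
    rintro ⟨σ, f, hf, hfix⟩
    obtain ⟨F₀, hF₀, hre⟩ := realisable_of_unitary hQ hodd hP.absIrred (hP.le.trans hiso) hf hfix
    exact hsub F₀ hF₀ hre

end CfsgLib.Techniques.AschOmega
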