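/-
The adjoint anti-involution on the algebra spanned by a group of isometries: isotypic components are orthogonal,
central fields are self-adjoint.
-/
import Cfsg.Agent.Lib.Techniques.AschGen.Clifford
import Cfsg.Agent.Lib.Techniques.AschOmega.Main

set_option autoImplicit false

namespace CfsgLib.Techniques.AschOmega

open Matrix CfsgLib.Techniques.AschPrime CfsgLib.Techniques.AschGen CfsgLib.Classical
open scoped MatrixGroups

variable {F : Type*} [Field F] {ι : Type} [Fintype ι] [DecidableEq ι] {q : QuadraticForm F (ι → F)}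

/-- The adjoint of a matrix for the polar form. -/
noncomputable def adjM (q : QuadraticForm F (ι → F)) (X : Matrix ι ι F) : Matrix ι ι F :=
  (polarMat q)⁻¹ * Xᵀ * polarMat q

theorem polarMat_isUnit (hQ : PolarNondeg q) : IsUnit (polarMat q).det :=
  isUnit_iff_ne_zero.mpr (polarMat_det hQ)

theorem adjM_mul (hQ : PolarNondeg q) (X Y : Matrix ι ι F) : adjM q (X * Y) = adjM q Y * adjM q X := by
  simp only [adjM, transpose_mul, mul_assoc]
  rw [← mul_assoc (polarMat q) (polarMat q)⁻¹, mul_nonsing_inv _ (polarMat_isUnit hQ), one_mul]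

theorem adjM_adjM (hQ : PolarNondeg q) (X : Matrix ι ι F) : adjM q (adjM q X) = X := by
  have hu := polarMat_isUnit hQ
  simp only [adjM, transpose_mul, transpose_transpose, transpose_nonsing_inv, polarMat_symm, mul_assoc,
    nonsing_inv_mul _ hu, mul_one]
  rw [← mul_assoc, nonsing_inv_mul _ hu, one_mul]

theorem adjM_add (X Y : Matrix ι ι F) : adjM q (X + Y) = adjM q X + adjM q Y := by
  simp only [adjM, transpose_add, mul_add, add_mul]

theorem adjM_sub (X Y : Matrix ι ι F) : adjM q (X - Y) = adjM q X - adjM q Y := by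
  simp only [adjM, transpose_sub, mul_sub, sub_mul]

theorem adjM_zero : adjM q 0 = 0 := by simp [adjM]

theorem adjM_smul_one (hQ : PolarNondeg q) (c : F) : adjM q (c • 1) = c • 1 := by
  simp only [adjM, transpose_smul, transpose_one, Matrix.mul_smul, mul_one, Matrix.smul_mul,
    nonsing_inv_mul _ (polarMat_isUnit hQ)]

theorem adjM_isometry (hQ : PolarNondeg q) {g : GL ι F} (hg : g ∈ Cfsg.isometryGroup F ⇑q) :
    adjM q (g : Matrix ι ι F) = ((g⁻¹ : GL ι F) : Matrix ι ι F) := by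
  have hu := polarMat_isUnit hQ
  have h1 : (g : Matrix ι ι F)ᵀ * polarMat q = polarMat q * ((g⁻¹ : GL ι F) : Matrix ι ι F) := by
    conv_rhs => rw [← polarMat_isometry q hg]
    rw [mul_assoc ((g : Matrix ι ι F)ᵀ * polarMat q), ← Units.val_mul, mul_inv_cancel, Units.val_one, mul_one]
  rw [adjM, mul_assoc, h1, ← mul_assoc, nonsing_inv_mul _ hu, one_mul]

/-- The algebra spanned by isometries is closed under adjoints. -/
theorem adjM_mem_alg (hQ : PolarNondeg q) {N : Subgroup (GL ι F)} (hN : N ≤ Cfsg.isometryGroup F ⇑q)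
    {X : Matrix ι ι F} (hX : X ∈ alg N) : adjM q X ∈ alg N := by
  refine Algebra.adjoin_induction (p := fun r _ => adjM q r ∈ alg N) ?_ ?_ ?_ ?_ hX
  · rintro _ ⟨y, hy, rfl⟩
    rw [adjM_isometry hQ (hN hy)]
    exact coe_mem_alg (N.inv_mem hy)
  · intro c
    rw [Algebra.algebraMap_eq_smul_one, adjM_smul_one hQ]
    exact (alg N).smul_mem (alg N).one_mem c
  · intro x y _ _ hx hy
    rw [adjM_add]
    exact add_mem hx hy
  · intro x y _ _ hx hy
    rw [adjM_mul hQ]
    exact mul_mem hy hx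

theorem adjM_central (hQ : PolarNondeg q) {N : Subgroup (GL ι F)} (hN : N ≤ Cfsg.isometryGroup F ⇑q)
    {X : Matrix ι ι F} (hX : ∀ y ∈ alg N, X * y = y * X) : ∀ y ∈ alg N, adjM q X * y = y * adjM q X := fun y hy => by
  have h := congrArg (adjM q) (hX _ (adjM_mem_alg hQ hN hy))
  rwa [adjM_mul hQ, adjM_mul hQ, adjM_adjM hQ, eq_comm] at h

theorem polar_adjM (hQ : PolarNondeg q) (X : Matrix ι ι F) (u v : ι → F) :
    QuadraticMap.polar q (X *ᵥ u) v = QuadraticMap.polar q u (adjM q X *ᵥ v) := by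
  rw [(IsSesq.of_bilinear (polar_bilin q)).eq_gram, (IsSesq.of_bilinear (polar_bilin q)).eq_gram]
  change (X *ᵥ u) ⬝ᵥ (polarMat q *ᵥ v) = u ⬝ᵥ (polarMat q *ᵥ (adjM q X *ᵥ v))
  rw [mulVec_mulVec, adjM, mul_assoc (polarMat q)⁻¹, ← mul_assoc (polarMat q), mul_nonsing_inv _ (polarMat_isUnit hQ),
    one_mul, ← mulVec_mulVec, dotProduct_mulVec u, vecMul_transpose]

/-- The isotypic decomposition of a normal subgroup in odd dimension is orthogonal, and is permuted transitively. -/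
theorem orth_decomp (hQ : PolarNondeg q) (hodd : Odd (Fintype.card ι)) {H N : Subgroup (GL ι F)}
    (hirr : Irr H) (hiso : H ≤ Cfsg.isometryGroup F ⇑q) (hNH : N ≤ H) {t m : ℕ}
    {D : Fin t → Submodule F (ι → F)} (hD : Cfsg.Geo.IsMDecomposition m D)
    (hst : H ≤ Cfsg.Geo.decompositionStabilizer D) {ε : Fin t → Matrix ι ι F} (hε : IdemData N D ε) :
    Cfsg.Geo.IsOrthogonalMDecomposition ⇑q m D ∧
      ∀ i j, ∃ h ∈ H, (D i).map (Matrix.toLin' (h : Matrix ι ι F)) = D j := by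
  classical
  have hne : ∀ i, D i ≠ ⊥ := fun i h => by
    have h1 := hD.finrank_eq i
    rw [h, finrank_bot] at h1
    exact (Nat.ne_of_lt hD.pos) h1
  have hε0 : ∀ i, ε i ≠ 0 := fun i h => hne i ((Submodule.eq_bot_iff _).2 fun v hv => by
    have h1 := (hε.range i v).1 hv
    rw [h, zero_mulVec] at h1
    exact h1.symm)
  have htrans : ∀ i j, ∃ h ∈ H, (D i).map (Matrix.toLin' (h : Matrix ι ι F)) = D j := by
    intro i j
    by_contra hno
    obtain ⟨U, hU⟩ : ∃ U, U = ⨆ h : H, (D i).map (Matrix.toLin' ((h : GL ι F) : Matrix ι ι F)) := ⟨_, rfl⟩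
    have hinv : Inv H U := by
      intro g hg v hv
      have hle : U.map (Matrix.toLin' (g : Matrix ι ι F)) ≤ U := by
        rw [hU, Submodule.map_iSup]
        refine iSup_le fun h => le_iSup_of_le (⟨g, hg⟩ * h) ?_
        rw [← Submodule.map_comp, ← Matrix.toLin'_mul, ← Units.val_mul]
        exact le_rfl
      have := hle (Submodule.mem_map_of_mem hv)
      rwa [Matrix.toLin'_apply] at this
    have hUtop : U = ⊤ := ((irr_iff H).mp hirr _ hinv).resolve_left fun h0 => hne i (by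
      rw [eq_bot_iff, ← h0, hU]
      refine le_trans ?_ (le_iSup _ 1)
      intro v hv
      exact ⟨v, hv, by simp⟩)
    refine hne j ((hD.indep j).eq_bot_of_le ?_)
    refine le_trans le_top (hUtop.symm.le.trans (hU.le.trans (iSup_le fun h => ?_)))
    obtain ⟨σ, hσ⟩ := hst h.2
    rw [hσ i]
    refine le_iSup₂_of_le (σ i) ?_ le_rfl
    exact fun h' => hno ⟨h, h.2, (hσ i).trans (congrArg D h')⟩
  have hNiso := hNH.trans hiso
  -- the adjoint permutes the idempotents
  have hτex : ∀ i, ∃ j, adjM q (ε i) = ε j := by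
    intro i
    obtain ⟨f, hf⟩ : ∃ f, f = adjM q (ε i) := ⟨_, rfl⟩
    have hfm : f ∈ alg N := hf ▸ adjM_mem_alg hQ hNiso (hε.mem i)
    have hfc : ∀ y ∈ alg N, f * y = y * f := hf ▸ adjM_central hQ hNiso (hε.central i)
    have hfi : f * f = f := by rw [hf, ← adjM_mul hQ, hε.idem]
    obtain ⟨j, hj⟩ : ∃ j, ε j * f = ε j := by
      by_contra hno
      push Not at hno
      have h : f = ∑ j, ε j * f := by rw [← Finset.sum_mul, hε.sum, one_mul]
      rw [Finset.sum_eq_zero fun j _ => (hε.primitive f hfm hfc hfi j).resolve_right (hno j)] at h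
      have h1 := congrArg (adjM q) h
      rw [hf, adjM_adjM hQ, adjM_zero] at h1
      exact hε0 i h1
    refine ⟨j, ?_⟩
    have h1 := congrArg (adjM q) hj
    rw [adjM_mul hQ, hf, adjM_adjM hQ] at h1
    rcases hε.primitive _ (adjM_mem_alg hQ hNiso (hε.mem j)) (adjM_central hQ hNiso (hε.central j))
      (by rw [← adjM_mul hQ, hε.idem]) i with h2 | h2
    · exfalso
      rw [h1] at h2
      have h3 := congrArg (adjM q) h2
      rw [adjM_adjM hQ, adjM_zero] at h3
      exact hε0 j h3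
    · rw [h1] at h2
      rw [← h2, adjM_adjM hQ]
  choose τ hτ using hτex
  have hεinj : Function.Injective ε := fun i j hij => by
    by_contra hne'
    have h := hε.mul i j hne'
    rw [← hij, hε.idem] at h
    exact hε0 i h
  have hτinv : Function.Involutive τ := fun i => hεinj (by rw [← hτ, ← hτ, adjM_adjM hQ])
  have ht : Odd t := by
    have h := finrank_iSup_eq_sum D hD.indep hD.iSup_eq_top
    simp only [hD.finrank_eq, Finset.sum_const, Finset.card_univ, Fintype.card_fin, smul_eq_mul] at h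
    exact (Nat.odd_mul.1 (h ▸ hodd)).1
  obtain ⟨i₀, hi₀⟩ : ∃ i, τ i = i := by
    haveI : Fact (Nat.Prime 2) := ⟨Nat.prime_two⟩
    obtain ⟨i, hi⟩ := Equiv.Perm.exists_fixed_point_of_prime (p := 2) (n := 1)
      (by rw [Fintype.card_fin]; exact fun h => (Nat.not_even_iff_odd.2 ht) (even_iff_two_dvd.2 h))
      (σ := hτinv.toPerm τ) (by ext i; simp [pow_two, hτinv i])
    exact ⟨i, hi⟩
  have horth₀ : ∀ k, k ≠ i₀ → ∀ x ∈ D i₀, ∀ y ∈ D k, QuadraticMap.polar q x y = 0 := by
    intro k hk x hx y hy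
    rw [← (hε.range i₀ x).1 hx, polar_adjM hQ, hτ, hi₀, ← (hε.range k y).1 hy, mulVec_mulVec,
      hε.mul i₀ k hk.symm, zero_mulVec, QuadraticMap.polar_zero_right]
  have horth : ∀ i j, i ≠ j → ∀ x ∈ D i, ∀ y ∈ D j, QuadraticMap.polar q x y = 0 := by
    intro i j hij x hx y hy
    obtain ⟨h, hh, hmap⟩ := htrans i₀ i
    obtain ⟨x₀, hx₀, rfl⟩ := hmap.symm ▸ hx
    obtain ⟨σ, hσ⟩ := hst hh
    obtain ⟨k, rfl⟩ := σ.surjective j
    obtain ⟨y₀, hy₀, rfl⟩ := hσ k ▸ hy
    rw [Matrix.toLin'_apply, Matrix.toLin'_apply, polar_isometry (hiso hh)]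
    refine horth₀ k (fun hk => hij ?_) _ hx₀ _ hy₀
    have h1 : D i = D (σ k) := by rw [← hmap, ← hσ, hk]
    by_contra hne'
    exact hne i ((hD.indep i).eq_bot_of_le (h1.le.trans (le_iSup₂_of_le (σ k) (Ne.symm hne') le_rfl)))
  refine ⟨⟨⟨hD, fun i w hw hw0 => ?_, fun i j hij => horth i j hij⟩, fun i j => ?_⟩, htrans⟩
  · obtain ⟨x, hx, hxw⟩ : ∃ x ∈ D i, QuadraticMap.polar q w x ≠ 0 := by
      by_contra hno
      push Not at hno
      refine hw0 (hQ w fun y => ?_)
      have hy : y ∈ iSup D := hD.iSup_eq_top.symm ▸ Submodule.mem_top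
      induction hy using Submodule.iSup_induction' with
      | mem k z hz =>
        by_cases hk : i = k
        · subst hk; exact hno z hz
        · exact horth i k hk w hw z hz
      | zero => exact QuadraticMap.polar_zero_right q w
      | add a b _ _ ha hb => rw [QuadraticMap.polar_add_right, ha, hb, add_zero]
    exact ⟨⟨x, hx, by rwa [QuadraticMap.polar_comm]⟩, ⟨x, hx, hxw⟩⟩
  · obtain ⟨h, hh, hmap⟩ := htrans i j
    refine ⟨(Submodule.equivMapOfInjective _ (toLin'_injective_of_gl h) (D i)).trans (LinearEquiv.ofEq _ _ hmap),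
      fun w => ?_⟩
    exact (congrArg q (Matrix.toLin'_apply _ _)).trans (map_isometry (hiso hh) _)

/-- A matrix commuting with a group permuting isotypic lines transitively is scalar. -/
theorem absIrr_of_idem_lines [Nonempty ι] {H N : Subgroup (GL ι F)} (hirr : Irr H) (hNH : N ≤ H) {t : ℕ}
    {D : Fin t → Submodule F (ι → F)} (hD : Cfsg.Geo.IsMDecomposition 1 D)
    {ε : Fin t → Matrix ι ι F} (hε : IdemData N D ε)
    (htrans : ∀ i j, ∃ h ∈ H, (D i).map (Matrix.toLin' (h : Matrix ι ι F)) = D j) : AbsIrr H := by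
  refine ⟨hirr, fun M hM => ?_⟩
  have hMalg : ∀ y ∈ alg N, M * y = y * M := by
    intro y hy
    refine Algebra.adjoin_induction (p := fun r _ => M * r = r * M) ?_ ?_ ?_ ?_ hy
    · rintro _ ⟨z, hz, rfl⟩
      exact hM _ ⟨z, hNH hz, rfl⟩
    · intro c; exact (Algebra.commutes c M).symm
    · intro x y _ _ hx hy; rw [mul_add, add_mul, hx, hy]
    · intro x y _ _ hx hy; rw [← mul_assoc, hx, mul_assoc, hy, mul_assoc]
  have hpick : ∀ i, ∃ v ∈ D i, v ≠ (0 : ι → F) := fun i =>
    Submodule.exists_mem_ne_zero_of_ne_bot fun h => by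
      have h1 := hD.finrank_eq i
      rw [h, finrank_bot] at h1
      exact zero_ne_one h1
  choose v hv hv0 using hpick
  have hspan : ∀ i, ∀ x ∈ D i, ∃ a : F, a • v i = x := fun i x hx => by
    obtain ⟨a, ha⟩ := (finrank_eq_one_iff_of_nonzero' (⟨v i, hv i⟩ : D i)
      (fun h => hv0 i (congrArg Subtype.val h))).mp (hD.finrank_eq i) ⟨x, hx⟩
    exact ⟨a, congrArg Subtype.val ha⟩
  have hline : ∀ i, ∃ a : F, a • v i = M *ᵥ v i := fun i => hspan i _ ((hε.range i _).2 (by
    rw [mulVec_mulVec, ← hMalg _ (hε.mem i), ← mulVec_mulVec, (hε.range i _).1 (hv i)]))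
  choose a ha using hline
  let i₀ : Fin t := ⟨0, by have := hD.two_le; omega⟩
  refine ⟨a i₀, Matrix.toLin'.injective (LinearMap.ext fun w => ?_)⟩
  have hw : w ∈ iSup D := hD.iSup_eq_top.symm ▸ Submodule.mem_top
  induction hw using Submodule.iSup_induction' with
  | mem i x hx =>
    obtain ⟨h, hh, hmap⟩ := htrans i₀ i
    obtain ⟨y, hy, rfl⟩ := hmap.symm ▸ hx
    obtain ⟨b, rfl⟩ := hspan i₀ y hy
    simp only [Matrix.toLin'_apply, Matrix.smul_mulVec, one_mulVec]
    rw [mulVec_mulVec, hM _ ⟨h, hh, rfl⟩, ← mulVec_mulVec]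
    simp only [mulVec_smul, ← ha, smul_comm (a i₀)]
  | zero => simp
  | add x y _ _ hx hy => simp only [map_add, hx, hy]

/-- Signed monomial coordinates for an orthogonal decomposition into lines permuted transitively. -/
theorem signed_coords {H : Subgroup (GL ι F)} (hiso : H ≤ Cfsg.isometryGroup F ⇑q) {t : ℕ}
    (hn : Fintype.card ι = t) {D : Fin t → Submodule F (ι → F)}
    (hD : Cfsg.Geo.IsOrthogonalMDecomposition ⇑q 1 D) (hst : H ≤ Cfsg.Geo.decompositionStabilizer D)
    (htrans : ∀ i j, ∃ h ∈ H, (D i).map (Matrix.toLin' (h : Matrix ι ι F)) = D j) :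
    ∃ B : GL ι F, ∀ s ∈ H, ∀ i j, ((B : Matrix ι ι F) * (s : Matrix ι ι F) * ((B⁻¹ : GL ι F) : Matrix ι ι F)) i j = 0 ∨
      ((B : Matrix ι ι F) * (s : Matrix ι ι F) * ((B⁻¹ : GL ι F) : Matrix ι ι F)) i j = 1 ∨
      ((B : Matrix ι ι F) * (s : Matrix ι ι F) * ((B⁻¹ : GL ι F) : Matrix ι ι F)) i j = -1 := by
  classical
  have hdim := hD.decomp.decomp.finrank_eq
  let i₀ : Fin t := ⟨0, by have := hD.decomp.decomp.two_le; omega⟩
  obtain ⟨v, hv, hv0⟩ := Submodule.exists_mem_ne_zero_of_ne_bot (p := D i₀) fun h => by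
    have h1 := hdim i₀
    rw [h, finrank_bot] at h1
    exact zero_ne_one h1
  have hQ0 : q v ≠ 0 := by
    intro h0
    obtain ⟨⟨x, hx, hxv⟩, -⟩ := hD.decomp.nondegenerate i₀ v hv hv0
    obtain ⟨a, ha⟩ := (finrank_eq_one_iff_of_nonzero' (⟨v, hv⟩ : D i₀)
      (fun h => hv0 (congrArg Subtype.val h))).mp (hdim i₀) ⟨x, hx⟩
    have ha' : a • v = x := congrArg Subtype.val ha
    rw [← ha', QuadraticMap.polar_smul_left, quad_polar_self, h0, mul_zero, smul_zero] at hxv
    exact hxv rfl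
  choose g hg hgmap using htrans i₀
  let w : Fin t → ι → F := fun j => (g j : Matrix ι ι F) *ᵥ v
  have hQw : ∀ j, q (w j) = q v := fun j => map_isometry (hiso (hg j)) _
  have hwD : ∀ j, w j ∈ D j := fun j => hgmap j ▸ ⟨v, hv, Matrix.toLin'_apply _ _⟩
  have hw0 : ∀ j, w j ≠ 0 := fun j h => hQ0 (by rw [← hQw j, h, map_zero])
  let e : ι ≃ Fin t := Fintype.equivFinOfCardEq hn
  let C : Matrix ι ι F := Matrix.of fun a i => w (e i) a
  have hCdet : IsUnit C.det := by
    rw [← Matrix.isUnit_iff_isUnit_det, ← Matrix.linearIndependent_cols_iff_isUnit]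
    exact (hD.decomp.decomp.indep.linearIndependent _ hwD hw0).comp e e.injective
  refine ⟨(Matrix.GeneralLinearGroup.mk'' C hCdet)⁻¹, fun s hs a b => ?_⟩
  obtain ⟨σ, hσ⟩ := hst hs
  obtain ⟨d, hd⟩ : ∃ d : F, d • w (σ (e b)) = (s : Matrix ι ι F) *ᵥ w (e b) := by
    have hmem : (s : Matrix ι ι F) *ᵥ w (e b) ∈ D (σ (e b)) :=
      hσ (e b) ▸ ⟨w (e b), hwD _, Matrix.toLin'_apply _ _⟩
    obtain ⟨d, hd⟩ := (finrank_eq_one_iff_of_nonzero' (⟨_, hwD (σ (e b))⟩ : D (σ (e b)))
      fun h => hw0 _ (congrArg Subtype.val h)).mp (hdim _) ⟨_, hmem⟩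
    exact ⟨d, congrArg Subtype.val hd⟩
  have hd1 : d = 1 ∨ d = -1 := by
    refine mul_self_eq_one_iff.1 ((mul_eq_right₀ hQ0).mp ?_)
    have h := map_isometry (hiso hs) (w (e b))
    rw [← hd, quad_smul, hQw, hQw] at h
    exact h
  set B := Matrix.GeneralLinearGroup.mk'' C hCdet with hB
  have hcol : ∀ k, (B : Matrix ι ι F) *ᵥ Pi.single k 1 = w (e k) := fun k => by
    funext l
    change (C *ᵥ Pi.single k 1) l = _
    simp [C]
  have hent : (((B⁻¹ : GL ι F) : Matrix ι ι F) * (s : Matrix ι ι F) * (((B⁻¹)⁻¹ : GL ι F) : Matrix ι ι F)) *ᵥ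
      Pi.single b 1 = d • Pi.single (e.symm (σ (e b))) 1 := by
    rw [inv_inv, ← mulVec_mulVec, hcol, ← mulVec_mulVec, ← hd, mulVec_smul]
    congr 1
    apply mulVec_inj B
    rw [← mulVec_mul, mul_inv_cancel, Units.val_one, one_mulVec, hcol, Equiv.apply_symm_apply]
  have := congrFun hent a
  rw [mulVec_single_one] at this
  rw [show ((((B⁻¹ : GL ι F) : Matrix ι ι F) * (s : Matrix ι ι F) * (((B⁻¹)⁻¹ : GL ι F) : Matrix ι ι F))) a b =
    _ from this, Pi.smul_apply, Pi.single_apply, smul_eq_mul]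
  split_ifs
  · rw [mul_one]; exact Or.inr hd1
  · exact Or.inl (mul_zero _)

/-- Central fields of the algebra spanned by isometries in odd dimension are self-adjoint. -/
theorem selfAdjoint_centre [Nonempty ι] (hQ : PolarNondeg q) (h2 : (2 : F) ≠ 0) (hodd : Odd (Fintype.card ι))
    {N : Subgroup (GL ι F)} (hN : N ≤ Cfsg.isometryGroup F ⇑q)
    (hfield : ∀ x ∈ alg N, (∀ y ∈ alg N, x * y = y * x) → x ≠ 0 → ∃ y, x * y = 1) {k : Matrix ι ι F}
    (hk : k ∈ alg N) (hkc : ∀ y ∈ alg N, k * y = y * k) : adjM q k = k := by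
  by_contra hne
  obtain ⟨d, hd⟩ : ∃ d, d = adjM q k - k := ⟨_, rfl⟩
  obtain ⟨z, hz⟩ := hfield d (hd ▸ sub_mem (adjM_mem_alg hQ hN hk) hk)
    (fun y hy => by rw [hd, sub_mul, mul_sub, adjM_central hQ hN hkc y hy, hkc y hy]) (hd ▸ sub_ne_zero.2 hne)
  have hskew : (polarMat q * d)ᵀ = -(polarMat q * d) := by
    have hu := polarMat_isUnit hQ
    have h1 : polarMat q * adjM q k = kᵀ * polarMat q := by
      rw [adjM, ← mul_assoc, ← mul_assoc, mul_nonsing_inv _ hu, one_mul]
    rw [hd, mul_sub, h1, transpose_sub, transpose_mul, transpose_transpose, transpose_mul, polarMat_symm, neg_sub]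
  have h3 := congrArg Matrix.det hz
  have h4 := det_zero_of_skew hodd h2 hskew
  rw [det_mul] at h4
  rw [det_mul, det_one, (mul_eq_zero.1 h4).resolve_left (polarMat_det hQ), zero_mul] at h3
  exact zero_ne_one h3

end CfsgLib.Techniques.AschOmega
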