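/-
Symmetric forms on tensor products in odd dimension: the factors are symmetric and all tensor powers are standard.
-/
import Cfsg.Agent.Lib.Techniques.AschOmega.Adjoint
import Cfsg.Agent.Lib.Classical22.Asch.FormFactors
import Cfsg.Agent.Lib.Classical22.Asch.Members
import Cfsg.Agent.Lib.KnownSimple.Forms.Classify

set_option autoImplicit false

namespace CfsgLib.Techniques.AschOmega

open Matrix CfsgLib.Techniques.AschPrime CfsgLib.Classical22.Asch CfsgLib.Classical22.TensorMono Cfsg.Geo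
open scoped MatrixGroups Kronecker

variable {F : Type*} [Field F] {ι : Type} [Fintype ι] [DecidableEq ι]

/-- A symmetric non-degenerate matrix in odd dimension is congruent to a scalar matrix. -/
theorem exists_congr_scalar [Finite F] (h2 : (2 : F) ≠ 0) {κ : Type} [Fintype κ] [DecidableEq κ]
    (hodd : Odd (Fintype.card κ)) {G : Matrix κ κ F} (hG : Gᵀ = G) (hdet : G.det ≠ 0) :
    ∃ (c : F) (A : GL κ F), c ≠ 0 ∧ (A : Matrix κ κ F)ᵀ * G * (A : Matrix κ κ F) = c • 1 := by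
  obtain ⟨c, hc, x, y, hxy, hyx, hx⟩ := CfsgLib.Forms.formEquiv_of_odd (B := (1 : Matrix κ κ F)) h2 hG transpose_one
    (Equiv.refl κ) hdet (by rw [det_one]; exact one_ne_zero) hodd
  exact ⟨c, ⟨x, y, hxy, hyx⟩, hc, hx⟩

theorem symm_of_sq {κ : Type} [Fintype κ] [DecidableEq κ] (h2 : (2 : F) ≠ 0) (hodd : Odd (Fintype.card κ))
    {G : Matrix κ κ F} (hdet : G.det ≠ 0) {l : F} (hl : l * l = 1) (h : Gᵀ = l • G) : Gᵀ = G := by
  rcases mul_self_eq_one_iff.1 hl with h1 | h1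
  · rw [h, h1, one_smul]
  · exact absurd (det_zero_of_skew hodd h2 (by rw [h, h1, neg_one_smul])) hdet

theorem fGram_trans {κ κ' : Type} [Fintype κ] [DecidableEq κ] [Fintype κ'] [DecidableEq κ'] (e : ι ≃ κ)
    (e₂ : κ ≃ κ') (P : GL ι F) (f : (ι → F) → (ι → F) → F) :
    fGram (e.trans e₂) P f = (fGram e P f).submatrix e₂.symm e₂.symm := by
  have key : ∀ a, (Pi.single a 1 : κ' → F) ∘ (e.trans e₂) = (Pi.single (e₂.symm a) 1 : κ → F) ∘ e := fun a => by
    funext i
    simp [Pi.single_apply, Equiv.eq_symm_apply]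
  ext a b
  simp only [fGram, Cfsg.Geo.gramMatrix, coordForm, Matrix.submatrix_apply, key]

/-- A form whose Gram matrix is a pure tensor of symmetric factors is a scalar in other coordinates of the same
tensor wreath stabiliser. -/
theorem exists_standard_power [Finite F] (h2 : (2 : F) ≠ 0) {f : (ι → F) → (ι → F) → F}
    (hf : IsSesq (RingEquiv.refl F) f) {m t : ℕ} (hm : Odd m) {e : ι ≃ (Fin t → Fin m)} {P : GL ι F} {c : F}
    (hc : c ≠ 0) {G : Fin t → Matrix (Fin m) (Fin m) F} (hGs : ∀ i, (G i)ᵀ = G i) (hGd : ∀ i, (G i).det ≠ 0)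
    (hG : fGram e P f = c • wr 1 G) :
    ∃ (P' : GL ι F) (c' : F), c' ≠ 0 ∧ fGram e P' f = c' • 1 ∧
      Cfsg.Geo.tensorWreathSubgroup m t e P' = Cfsg.Geo.tensorWreathSubgroup m t e P := by
  classical
  choose d A hd hA using fun i => exists_congr_scalar h2 (by rwa [Fintype.card_fin]) (hGs i) (hGd i)
  obtain ⟨z, hz, hzv⟩ := exists_gl_wr (1 : Equiv.Perm (Fin t)) A
  obtain ⟨Z, hZ⟩ : ∃ Z : GL ι F, Z = Cfsg.Geo.glReindex e.symm z := ⟨_, rfl⟩
  refine ⟨P * Z, c * ∏ i, d i, mul_ne_zero hc (Finset.prod_ne_zero_iff.2 fun i _ => hd i), ?_, ?_⟩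
  · have hcoord : coordForm e (P * Z) f = fun x y =>
        coordForm e P f ((z : Matrix (Fin t → Fin m) (Fin t → Fin m) F) *ᵥ x)
          ((z : Matrix (Fin t → Fin m) (Fin t → Fin m) F) *ᵥ y) := by
      have hval : ∀ x : (Fin t → Fin m) → F, ((P * Z : GL ι F) : Matrix ι ι F) *ᵥ (x ∘ e) =
          (P : Matrix ι ι F) *ᵥ (((z : Matrix (Fin t → Fin m) (Fin t → Fin m) F) *ᵥ x) ∘ e) := fun x => by
        rw [Units.val_mul, ← mulVec_mulVec, hZ]
        congr 1
        change (Matrix.reindexAlgEquiv F F e.symm (z : Matrix (Fin t → Fin m) (Fin t → Fin m) F)) *ᵥ (x ∘ e) = _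
        rw [Matrix.reindexAlgEquiv_apply, Matrix.reindex_apply, Equiv.symm_symm, Matrix.submatrix_mulVec_equiv,
          Function.comp_assoc, Equiv.self_comp_symm, Function.comp_id]
      funext x y
      simp only [coordForm, hval]
    rw [fGram, hcoord, (isSesq_coordForm (e := e) (P := P) hf).gram_comp]
    change (z : Matrix (Fin t → Fin m) (Fin t → Fin m) F)ᵀ * fGram e P f *
      (z : Matrix (Fin t → Fin m) (Fin t → Fin m) F).map id = _
    rw [Matrix.map_id, hG, hzv, wr_transpose, Matrix.mul_smul, Matrix.smul_mul, mul_smul]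
    congr 1
    change wr 1 (fun j => (A j : Matrix (Fin m) (Fin m) F)ᵀ) * wr 1 G * wr 1 _ = _
    rw [wr_one_mul, wr_one_mul]
    simp only [hA]
    rw [wr_smul, wr_one]
  · unfold Cfsg.Geo.tensorWreathSubgroup
    have hself : (Cfsg.Geo.tensorWreathStandard m t F).map (MulAut.conj z).toMonoidHom =
        Cfsg.Geo.tensorWreathStandard m t F := by
      ext y
      refine ⟨?_, fun hy => ⟨z⁻¹ * y * z, mul_mem (mul_mem (inv_mem hz) hy) hz, ?_⟩⟩
      · rintro ⟨y, hy, rfl⟩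
        exact mul_mem (mul_mem hz hy) (inv_mem hz)
      · change z * (z⁻¹ * y * z) * z⁻¹ = y
        group
    conv_rhs => rw [← hself]
    simp only [Subgroup.map_map]
    congr 1
    refine MonoidHom.ext fun y => ?_
    simp only [MonoidHom.comp_apply, MulEquiv.coe_toMonoidHom, MulAut.conj_apply, hZ, map_mul, map_inv,
      MulAut.mul_apply]

/-- The standard tensor power structure. -/
theorem isTensorPower_of_scalar {f : (ι → F) → (ι → F) → F} (hf : IsSesq (RingEquiv.refl F) f) {m t : ℕ}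
    {e : ι ≃ (Fin t → Fin m)} {P : GL ι F} {c : F} (hc : c ≠ 0) (hG : fGram e P f = c • 1) :
    Cfsg.Geo.IsTensorPowerFormStructure id f (Cfsg.Geo.formOfGram (id : F → F) (1 : Matrix (Fin m) (Fin m) F)) e P := by
  refine ⟨c, hc, fun x y => ?_⟩
  have hgram : Cfsg.Geo.gramMatrix (Cfsg.Geo.formOfGram (id : F → F) (1 : Matrix (Fin m) (Fin m) F)) = 1 :=
    gram_formOfGram (σ := RingEquiv.refl F) (1 : Matrix (Fin m) (Fin m) F)
  have hprod : ∀ a b : Fin t → Fin m, ∏ i, (1 : Matrix (Fin m) (Fin m) F) (a i) (b i) = if a = b then 1 else 0 := by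
    intro a b
    simp [Matrix.one_apply, Finset.prod_boole, funext_iff]
  rw [coord_formula hf, hG, hgram, smul_mulVec, one_mulVec, dotProduct_smul, smul_eq_mul]
  congr 1
  simp [hprod, dotProduct]

/-- The tensor members of an orthogonal group in odd dimension, from adapted coordinates. -/
theorem tensor_member [Finite F] (h2 : (2 : F) ≠ 0) {q : QuadraticForm F (ι → F)}
    (hQ : CfsgLib.Classical.PolarNondeg q) (hodd : Odd (Fintype.card ι)) {S : Set (Matrix ι ι F)}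
    (hfix : Cfsg.Geo.FixesForm S (QuadraticMap.polar ⇑q)) {d k : ℕ} (hd : 2 ≤ d) (hk : 2 ≤ k)
    {e : ι ≃ Fin d × Fin k} {P : GL ι F} {ρ : S → Matrix (Fin d) (Fin d) F}
    (hρ : Cfsg.Geo.ActsAbsolutelyIrreducibly (Set.range ρ))
    (hP : ∀ x : S, toCoord e P (x : Matrix ι ι F) = ρ x ⊗ₖ (1 : Matrix (Fin k) (Fin k) F)) :
    (∃ (n₁ n₂ : ℕ) (e' : ι ≃ Fin n₁ × Fin n₂) (f₁ : (Fin n₁ → F) → (Fin n₁ → F) → F)
      (f₂ : (Fin n₂ → F) → (Fin n₂ → F) → F), 3 ≤ n₁ ∧ n₁ < n₂ ∧ Cfsg.Geo.IsSymmetricForm f₁ ∧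
      Cfsg.Geo.IsSymmetricForm f₂ ∧ Cfsg.Geo.IsTensorFormStructure id (QuadraticMap.polar ⇑q) f₁ f₂ e' P ∧
      Cfsg.Geo.tensorProductSubgroup d k e P ≤ Cfsg.Geo.tensorProductSubgroup n₁ n₂ e' P) ∨
    (∃ (e' : ι ≃ (Fin 2 → Fin d)) (P' : GL ι F) (c : F), 3 ≤ d ∧ c ≠ 0 ∧
      fGram e' P' (QuadraticMap.polar ⇑q) = c • 1 ∧
      Cfsg.Geo.tensorProductSubgroup d k e P ≤ Cfsg.Geo.tensorWreathSubgroup d 2 e' P') := by
  have hcard : Fintype.card ι = d * k := by simpa using Fintype.card_congr e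
  obtain ⟨hdo, hko⟩ := Nat.odd_mul.1 (hcard ▸ hodd)
  have hd3 : 3 ≤ d := by obtain ⟨a, ha⟩ := hdo; omega
  have hk3 : 3 ≤ k := by obtain ⟨a, ha⟩ := hko; omega
  have hf : IsSesq (RingEquiv.refl F) (QuadraticMap.polar ⇑q) := IsSesq.of_bilinear (polar_bilin q)
  obtain ⟨G₁, G₂, hG1, hG2, hG⟩ := exists_tensor_gram (by omega) (by omega) hf (polar_nondeg hQ) hfix hρ hP
  have hsym := fGram_transpose (σ := RingEquiv.refl F) (e := e) (P := P) (f := QuadraticMap.polar ⇑q) (ε := 1)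
    fun u v => by rw [one_mul]; exact QuadraticMap.polar_comm _ _ _
  rw [hG] at hsym
  haveI : Nonempty (Fin d) := ⟨⟨0, by omega⟩⟩
  haveI : Nonempty (Fin k) := ⟨⟨0, by omega⟩⟩
  obtain ⟨l, m, hlm, h1, h2', hl⟩ := split_symmetry (fun h => hG1 (by rw [h]; exact det_zero))
    (fun h => hG2 (by rw [h]; exact det_zero)) one_ne_zero (fun _ => rfl) hsym
  change l * l = 1 at hl
  have hs1 : G₁ᵀ = G₁ := symm_of_sq h2 (by rwa [Fintype.card_fin]) hG1 hl (by simpa using h1)
  have hm1 : m * m = 1 := by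
    have hl0 : l ≠ 0 := fun h => zero_ne_one (α := F) (by rw [← hlm, h, zero_mul])
    linear_combination (l * m + 1) * hlm - (m * m) * hl
  have hs2 : G₂ᵀ = G₂ := symm_of_sq h2 (by rwa [Fintype.card_fin]) hG2 hm1 (by simpa using h2')
  rcases lt_trichotomy d k with hlt | heq | hlt
  · exact Or.inl ⟨d, k, e, _, _, hd3, hlt, formOfGram_symmetric hG1 hs1, formOfGram_symmetric hG2 hs2,
      isTensorFormStructure hf one_ne_zero (by rw [one_smul, hG]), le_rfl⟩
  · subst heq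
    right
    have hGw : fGram (e.trans (piFinTwoEquiv fun _ => Fin d).symm) P (QuadraticMap.polar ⇑q) =
        (1 : F) • wr 1 (![G₁, G₂]) := by
      rw [fGram_trans, hG, one_smul]
      ext x y
      simp [wr_apply, Fin.prod_univ_two]
    obtain ⟨P', c, hc, hP', heq'⟩ := exists_standard_power h2 hf hdo one_ne_zero
      (Fin.forall_fin_two.2 ⟨hs1, hs2⟩) (Fin.forall_fin_two.2 ⟨hG1, hG2⟩) hGw
    exact ⟨_, P', c, hd3, hc, hP', heq' ▸ tensorProduct_le_wreath e P⟩
  · exact Or.inl ⟨k, d, _, _, _, hk3, hlt, formOfGram_symmetric hG2 hs2, formOfGram_symmetric hG1 hs1,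
      isTensorFormStructure hf one_ne_zero (fGram_swap (c := 1) (by rw [one_smul, hG])), tensorProduct_le_swap e P⟩

end CfsgLib.Techniques.AschOmega
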