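/-
Over three elements the orthogonal group of a tensor power of three-dimensional spaces is monomial.
-/
import Cfsg.Agent.Lib.Techniques.AschOmega.Tensor

set_option autoImplicit false

namespace CfsgLib.Techniques.AschOmega

open Matrix CfsgLib.Techniques.AschPrime CfsgLib.Classical22.Asch CfsgLib.Classical22.TensorMono
open scoped MatrixGroups

variable {F : Type*} [Field F] [Fintype F] {ι : Type} [Fintype ι] [DecidableEq ι]

theorem sq_zero_or_one (hq : Fintype.card F = 3) (x : F) : x * x = 0 ∨ x * x = 1 := by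
  by_cases hx : x = 0
  · exact Or.inl (by rw [hx, mul_zero])
  · have h := FiniteField.pow_card_sub_one_eq_one x hx
    rw [hq, sq] at h
    exact Or.inr h

theorem three_eq_zero (hq : Fintype.card F = 3) : (3 : F) = 0 := by
  have h := FiniteField.cast_card_eq_zero F
  rwa [hq, Nat.cast_ofNat] at h

/-- A vector of length three over three elements with square sum one has one non-zero entry. -/
theorem single_of_sum_sq (hq : Fintype.card F = 3) {v : Fin 3 → F} (h : ∑ i, v i * v i = 1) :
    ∃ i, v i ≠ 0 ∧ ∀ j, j ≠ i → v j = 0 := by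
  have h3 := three_eq_zero hq
  have h2 : (2 : F) ≠ 0 := fun h2 => one_ne_zero (show (1 : F) = 0 by linear_combination h3 - h2)
  have hv : ∀ i, v i * v i = 0 → v i = 0 := fun i hi => (mul_self_eq_zero).1 hi
  rw [Fin.sum_univ_three] at h
  rcases sq_zero_or_one hq (v 0) with a | a <;> rcases sq_zero_or_one hq (v 1) with b | b <;>
    rcases sq_zero_or_one hq (v 2) with c | c <;> rw [a, b, c] at h
  · exact absurd h (by simp)
  · exact ⟨2, fun h0 => by rw [h0, mul_zero] at c; exact zero_ne_one c, fun j hj => by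
      fin_cases j <;> first | exact hv _ a | exact hv _ b | exact absurd rfl hj⟩
  · exact ⟨1, fun h0 => by rw [h0, mul_zero] at b; exact zero_ne_one b, fun j hj => by
      fin_cases j <;> first | exact hv _ a | exact hv _ c | exact absurd rfl hj⟩
  · exact absurd (show (1 : F) = 0 by linear_combination h) one_ne_zero
  · exact ⟨0, fun h0 => by rw [h0, mul_zero] at a; exact zero_ne_one a, fun j hj => by
      fin_cases j <;> first | exact hv _ b | exact hv _ c | exact absurd rfl hj⟩
  · exact absurd (show (1 : F) = 0 by linear_combination h) one_ne_zero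
  · exact absurd (show (1 : F) = 0 by linear_combination h) one_ne_zero
  · exact absurd (show (1 : F) = 0 by linear_combination h3 - h) one_ne_zero

/-- An orthogonal basis with common value gives a decomposition into lines. -/
theorem lines_of_orth_basis {q : QuadraticForm F (ι → F)} (h2 : (2 : F) ≠ 0) {n : ℕ} (h2n : 2 ≤ n)
    (hn : Fintype.card ι = n) {w : Fin n → ι → F} {c : F} (hc : c ≠ 0)
    (hw : ∀ i j, QuadraticMap.polar q (w i) (w j) = if i = j then c else 0) :
    ∃ D : Fin n → Submodule F (ι → F), (∀ i, D i = Submodule.span F {w i}) ∧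
      Cfsg.Geo.IsOrthogonalMDecomposition ⇑q 1 D ∧
      ∀ g : GL ι F, (∀ i, ∃ (j : Fin n) (a : F), (g : Matrix ι ι F) *ᵥ w i = a • w j) →
        g ∈ Cfsg.Geo.decompositionStabilizer D := by
  classical
  have hw0 : ∀ i, w i ≠ 0 := fun i h => by
    have := hw i i
    rw [h, QuadraticMap.polar_zero_left, if_pos rfl] at this
    exact hc this.symm
  have hli : LinearIndependent F w := by
    rw [Fintype.linearIndependent_iff]
    intro a ha j
    have h1 := congrArg (fun x => QuadraticMap.polarBilin q x (w j)) ha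
    simp only [map_sum, map_smul, LinearMap.coe_sum, Finset.sum_apply, LinearMap.smul_apply,
      QuadraticMap.polarBilin_apply_apply, hw, smul_eq_mul, mul_ite, mul_zero, Finset.sum_ite_eq',
      Finset.mem_univ, if_true, QuadraticMap.polar_zero_left] at h1
    exact (mul_eq_zero.1 (by simpa using h1)).resolve_right hc
  have hQ : ∀ i, q (w i) = c / 2 := fun i => by
    have h := hw i i
    rw [if_pos rfl, CfsgLib.Classical.quad_polar_self] at h
    rw [← h]
    field_simp
  refine ⟨fun i => Submodule.span F {w i}, fun i => rfl, ⟨⟨⟨h2n, one_pos, fun i => finrank_span_singleton (hw0 i),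
    hli.iSupIndep_span_singleton, ?_⟩, fun i x hx hx0 => ?_, fun i j hij x hx y hy => ?_⟩, fun i j => ?_⟩,
    fun g hg => ?_⟩
  · refine Submodule.eq_top_of_finrank_eq ?_
    rw [← Submodule.span_range_eq_iSup, finrank_span_eq_card hli, Module.finrank_pi, hn, Fintype.card_fin]
  · obtain ⟨a, rfl⟩ := Submodule.mem_span_singleton.1 hx
    have ha : a ≠ 0 := fun h => hx0 (by rw [h, zero_smul])
    refine ⟨⟨w i, Submodule.mem_span_singleton_self _, ?_⟩, ⟨w i, Submodule.mem_span_singleton_self _, ?_⟩⟩
    · rw [QuadraticMap.polar_smul_right, hw, if_pos rfl, smul_eq_mul]; exact mul_ne_zero ha hc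
    · rw [QuadraticMap.polar_smul_left, hw, if_pos rfl, smul_eq_mul]; exact mul_ne_zero ha hc
  · obtain ⟨a, rfl⟩ := Submodule.mem_span_singleton.1 hx
    obtain ⟨b, rfl⟩ := Submodule.mem_span_singleton.1 hy
    rw [QuadraticMap.polar_smul_left, QuadraticMap.polar_smul_right, hw, if_neg hij, smul_zero, smul_zero]
  · refine ⟨(LinearEquiv.toSpanNonzeroSingleton F _ (w i) (hw0 i)).symm.trans
      (LinearEquiv.toSpanNonzeroSingleton F _ (w j) (hw0 j)), fun x => ?_⟩
    obtain ⟨a, rfl⟩ := (LinearEquiv.toSpanNonzeroSingleton F _ (w i) (hw0 i)).surjective x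
    rw [LinearEquiv.trans_apply, LinearEquiv.symm_apply_apply]
    change q (a • w j) = q (a • w i)
    rw [CfsgLib.Classical.quad_smul, CfsgLib.Classical.quad_smul, hQ, hQ]
  · choose j a hja using hg
    have ha : ∀ i, a i ≠ 0 := fun i h => hw0 i (mulVec_inj g (by rw [hja, h, zero_smul, mulVec_zero]))
    have hinj : Function.Injective j := fun x y hxy => by
      have h : (g : Matrix ι ι F) *ᵥ (a y • w x) = (g : Matrix ι ι F) *ᵥ (a x • w y) := by
        rw [mulVec_smul, mulVec_smul, hja, hja, hxy, smul_smul, smul_smul, mul_comm]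
      have h1 := congrArg (fun z => QuadraticMap.polar q z (w x)) (mulVec_inj g h)
      by_contra hne
      simp only [QuadraticMap.polar_smul_left, hw, if_true, if_neg (Ne.symm hne), smul_eq_mul, mul_zero] at h1
      exact mul_ne_zero (ha y) hc h1
    refine ⟨Equiv.ofBijective j (Finite.injective_iff_bijective.mp hinj), fun i => ?_⟩
    change (Submodule.span F {w i}).map _ = Submodule.span F {w (j i)}
    rw [Submodule.map_span, Set.image_singleton, Matrix.toLin'_apply, hja,
      Submodule.span_singleton_smul_eq (isUnit_iff_ne_zero.2 (ha i))]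

/-- Isometries in a tensor wreath stabiliser of three-dimensional factors over three elements permute the lines of the
standard basis. -/
theorem exists_lines_of_three (hq : Fintype.card F = 3) {q : QuadraticForm F (ι → F)} {t n : ℕ}
    (h2n : 2 ≤ n) (hn : Fintype.card ι = n) {e : ι ≃ (Fin t → Fin 3)} {P : GL ι F} {c : F} (hc : c ≠ 0)
    (hG : fGram e P (QuadraticMap.polar ⇑q) = c • 1) :
    ∃ D : Fin n → Submodule F (ι → F), Cfsg.Geo.IsOrthogonalMDecomposition ⇑q 1 D ∧
      Cfsg.Geo.tensorWreathSubgroup 3 t e P ⊓ Cfsg.isometryGroup F ⇑q ≤ Cfsg.Geo.decompositionStabilizer D := by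
  classical
  have h3 := three_eq_zero hq
  have h2 : (2 : F) ≠ 0 := fun h2 => one_ne_zero (show (1 : F) = 0 by linear_combination h3 - h2)
  have hf : IsSesq (RingEquiv.refl F) (QuadraticMap.polar ⇑q) := IsSesq.of_bilinear (polar_bilin q)
  let E : Fin n ≃ (Fin t → Fin 3) := (Fintype.equivFinOfCardEq hn).symm.trans e
  let v : (Fin t → Fin 3) → ι → F := fun x => (P : Matrix ι ι F) *ᵥ ((Pi.single x (1 : F) : (Fin t → Fin 3) → F) ∘ e)
  have hv : ∀ x y, QuadraticMap.polar q (v x) (v y) = if x = y then c else 0 := fun x y => by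
    have h := congrFun (congrFun hG x) y
    simp only [fGram, Cfsg.Geo.gramMatrix, coordForm, Matrix.smul_apply, Matrix.one_apply, smul_eq_mul, mul_ite,
      mul_one, mul_zero] at h
    exact h
  obtain ⟨D, -, hD, hstab⟩ := lines_of_orth_basis h2 h2n hn (q := q) (w := fun i => v (E i)) hc
    (fun i j => by rw [hv]; simp)
  refine ⟨D, hD, fun g hg => hstab g fun i => ?_⟩
  obtain ⟨z, hz, hgz⟩ := exists_toCoord_of_mem hg.1
  obtain ⟨π, A, hzA⟩ := standard_form hz
  -- the factors are orthogonal matrices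
  have hM := fGram_similarity (e := e) (P := P) hf (g := (g : Matrix ι ι F)) (c := 1)
    fun u w => by rw [one_mul]; exact polar_isometry hg.2 u w
  rw [hG, hgz, hzA, one_smul, show ((wr π fun i => (A i : Matrix (Fin 3) (Fin 3) F)).map (RingEquiv.refl F)) =
    wr π (fun i => (A i : Matrix (Fin 3) (Fin 3) F)) from rfl, Matrix.mul_smul, mul_one, Matrix.smul_mul] at hM
  have hM1 : (wr π fun i => (A i : Matrix (Fin 3) (Fin 3) F))ᵀ * (wr π fun i => (A i : Matrix (Fin 3) (Fin 3) F)) = 1 :=
    smul_right_injective (Matrix (Fin t → Fin 3) (Fin t → Fin 3) F) hc hM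
  rw [wr_transpose, wr_mul, Equiv.symm_trans_self, ← wr_one] at hM1
  have horth : ∀ i, (A i : Matrix (Fin 3) (Fin 3) F)ᵀ * (A i : Matrix (Fin 3) (Fin 3) F) = 1 := by
    intro i
    obtain ⟨l, hl⟩ := factor_of_eq _ _ hM1 (fun _ => (0 : Fin 3)) (fun _ => (0 : Fin 3))
      (fun _ => by rw [Matrix.one_apply_eq]; exact one_ne_zero) (π i)
    rw [Equiv.symm_apply_apply] at hl
    have hd := congrArg Matrix.det hl
    rw [det_mul, det_transpose, det_smul, det_one, mul_one, Fintype.card_fin] at hd
    have hd1 : (A i : Matrix (Fin 3) (Fin 3) F).det * (A i : Matrix (Fin 3) (Fin 3) F).det = 1 :=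
      (sq_zero_or_one hq _).resolve_left fun h0 =>
        (Matrix.GeneralLinearGroup.det (A i)).ne_zero (mul_self_eq_zero.1 h0)
    have hl1 : l = 1 := by
      rw [hd1] at hd
      have hl0 : l ≠ 0 := fun h => one_ne_zero (α := F) (by rw [hd, h]; ring)
      have hll : l * l = 1 := (sq_zero_or_one hq l).resolve_left fun h0 => hl0 (mul_self_eq_zero.1 h0)
      linear_combination -hd - l * hll
    rw [hl, hl1, one_smul]
  have hcol : ∀ i (b : Fin 3), ∃ a, (A i : Matrix (Fin 3) (Fin 3) F) a b ≠ 0 ∧
      ∀ a', a' ≠ a → (A i : Matrix (Fin 3) (Fin 3) F) a' b = 0 := fun i b => by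
    refine single_of_sum_sq hq ?_
    have h := congrFun (congrFun (horth i) b) b
    rwa [Matrix.mul_apply, Matrix.one_apply_eq] at h
  choose a ha ha0 using hcol
  obtain ⟨y, hy⟩ : ∃ y, y = E i := ⟨_, rfl⟩
  obtain ⟨x, hx⟩ : ∃ x : Fin t → Fin 3, x = fun i => a i (y (π i)) := ⟨_, rfl⟩
  refine ⟨E.symm x, (wr π fun i => (A i : Matrix (Fin 3) (Fin 3) F)) x y, ?_⟩
  simp only [Equiv.apply_symm_apply, ← hy, v]
  rw [mulVec_mulVec, toCoord_eq_iff.mp (hgz.trans hzA), ← mulVec_mulVec, Matrix.submatrix_mulVec_equiv,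
    Function.comp_assoc, Equiv.self_comp_symm, Function.comp_id, mulVec_single_one, ← mulVec_smul]
  congr 1
  funext l
  simp only [Function.comp_apply, Pi.smul_apply, Pi.single_apply, smul_eq_mul, Matrix.col_apply]
  by_cases hl : e l = x
  · rw [if_pos hl, mul_one, hl]
  · rw [if_neg hl, mul_zero, wr_apply]
    obtain ⟨k, hk⟩ := Function.ne_iff.1 hl
    exact Finset.prod_eq_zero (Finset.mem_univ k) (ha0 k _ _ (by rw [hx] at hk; exact hk))

end CfsgLib.Techniques.AschOmega
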