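/-
Subgroups of an orthogonal group in odd dimension: geometric members or the residual class.
-/
import Cfsg.Agent.Lib.Techniques.AschOmega.ThreeField
import Cfsg.Agent.Lib.Classical22.Asch.LinearCases

set_option autoImplicit false

namespace CfsgLib.Techniques.AschOmega

open Matrix CfsgLib.Techniques.AschPrime CfsgLib.Techniques.AschGen CfsgLib.Classical CfsgLib.Classical22
open CfsgLib.Classical22.Asch CfsgLib.Classical22.TensorMono
open scoped MatrixGroups Kronecker commutatorElement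

variable {F : Type*} [Field F] {ι : Type} [Fintype ι] [DecidableEq ι]

/-- A subgroup lies in one of the geometric stabilisers of an orthogonal group in odd dimension. -/
inductive InOddGeometric [Fintype F] (q : QuadraticForm F (ι → F)) (H : Subgroup (GL ι F)) : Prop
  | singular (W : Submodule F (ι → F)) (h0 : W ≠ ⊥) (hs : Cfsg.Geo.IsTotallySingularQuad ⇑q W)
      (hle : H ≤ Cfsg.Geo.subspaceStabilizer W)
  | nondeg (W : Submodule F (ι → F)) (h0 : W ≠ ⊥) (h1 : W ≠ ⊤)
      (hnd : Cfsg.Geo.IsNondegenerateOn (QuadraticMap.polar ⇑q) W) (hle : H ≤ Cfsg.Geo.subspaceStabilizer W)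
  | blocks (t k : ℕ) (D : Fin t → Submodule F (ι → F)) (hk : 1 < k)
      (hD : Cfsg.Geo.IsOrthogonalMDecomposition ⇑q k D) (hle : H ≤ Cfsg.Geo.decompositionStabilizer D)
  | lines (t : ℕ) (D : Fin t → Submodule F (ι → F)) (hq : (Fintype.card F).Prime)
      (hD : Cfsg.Geo.IsOrthogonalMDecomposition ⇑q 1 D) (hle : H ≤ Cfsg.Geo.decompositionStabilizer D)
  | field (r : ℕ) (K : Subalgebra F (Matrix ι ι F)) (hr : r.Prime) (hne : Fintype.card ι ≠ r)
      (hK : Cfsg.Geo.IsFieldSubalgebra r K) (hsa : Cfsg.Geo.IsSelfAdjointFor (QuadraticMap.polar ⇑q) K)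
      (hle : H ≤ Cfsg.Geo.subalgebraNormalizer K)
  | tensor (n₁ n₂ : ℕ) (e : ι ≃ Fin n₁ × Fin n₂) (P : GL ι F) (f₁ : (Fin n₁ → F) → (Fin n₁ → F) → F)
      (f₂ : (Fin n₂ → F) → (Fin n₂ → F) → F) (h3 : 3 ≤ n₁) (hlt : n₁ < n₂) (hs₁ : Cfsg.Geo.IsSymmetricForm f₁)
      (hs₂ : Cfsg.Geo.IsSymmetricForm f₂)
      (hf : Cfsg.Geo.IsTensorFormStructure id (QuadraticMap.polar ⇑q) f₁ f₂ e P)
      (hle : H ≤ Cfsg.Geo.tensorProductSubgroup n₁ n₂ e P)
  | subfield (F₀ : Subfield F) (r : ℕ) (P : GL ι F) (hr : r.Prime) (hcard : Fintype.card F = Nat.card F₀ ^ r)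
      (hP : Cfsg.Geo.IsQuadFormRationalStructure ⇑q F₀ P) (hle : H ≤ Cfsg.Geo.subfieldSubgroup F₀ P)
  | wreath (k t : ℕ) (e : ι ≃ (Fin t → Fin k)) (P : GL ι F) (c : F) (h3 : 3 ≤ k) (ht : 2 ≤ t)
      (hne : ¬ (Fintype.card F = 3 ∧ k = 3)) (hc : c ≠ 0) (hG : fGram e P (QuadraticMap.polar ⇑q) = c • 1)
      (hle : H ≤ Cfsg.Geo.tensorWreathSubgroup k t e P)

theorem scalar_eq_one [Finite F] {q : QuadraticForm F (ι → F)} (hQ : PolarNondeg q) (hodd : Odd (Fintype.card ι))
    {x : GL ι F} (hx : x ∈ Cfsg.isometryGroup F ⇑q) (hd : x ∈ Cfsg.Geo.specialLinear ι F)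
    (hs : x ∈ Cfsg.Geo.scalars ι F) : x = 1 := by
  have : Nonempty ι := Fintype.card_pos_iff.mp hodd.pos
  obtain ⟨c, hc⟩ := (Cfsg.Geo.mem_scalars_iff x).mp hs
  have hc2 : (c : F) * c = 1 := by
    have h := polarMat_isometry q hx
    rw [hc, transpose_smul, transpose_one, Matrix.smul_mul, one_mul, Matrix.mul_smul, mul_one, smul_smul] at h
    exact smul_left_injective F (fun h0 => polarMat_det hQ (by rw [h0]; exact det_zero))
      (h.trans (one_smul F _).symm)
  have hdet : (c : F) ^ Fintype.card ι = 1 := by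
    have h := congrArg Units.val (MonoidHom.mem_ker.mp hd)
    rw [Matrix.GeneralLinearGroup.val_det_apply, hc, det_smul, det_one, mul_one] at h
    simpa using h
  obtain ⟨m, hm⟩ := hodd
  rw [hm, pow_succ, pow_mul, sq, hc2, one_pow, one_mul] at hdet
  exact Units.ext (by rw [hc, hdet, one_smul]; rfl)

/-- Subgroups of the special orthogonal group in odd dimension. -/
theorem odd_class [Fintype F] {n : ℕ} (hn : Fintype.card ι = n) (hn3 : 3 ≤ n) (hodd : Odd n) (q : QuadraticForm F (ι → F))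
    (hQ : PolarNondeg q) (h2 : (2 : F) ≠ 0) (hstd : ∀ (F₀ : Subfield F) (i j : ι), polarMat q i j ∈ F₀)
    {H : Subgroup (GL ι F)} (hiso : H ≤ Cfsg.isometryGroup F ⇑q) (hdet : H ≤ Cfsg.Geo.specialLinear ι F) :
    InOddGeometric q H ∨ Cfsg.Geo.InOrthogonalResidualClass H := by
  classical
  subst hn
  have : Nonempty ι := Fintype.card_pos_iff.mp (by omega)
  by_cases hirr : Irr H
  swap
  · rw [irr_iff] at hirr
    push Not at hirr
    obtain ⟨W, hW, hW0, hW1⟩ := hirr
    have hmem : ∀ U : Submodule F (ι → F), Inv H U → H ≤ Cfsg.Geo.subspaceStabilizer U :=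
      fun U hU h hh => CfsgLib.Transvec.mem_subspaceStabilizer_of_maps (hU h hh)
    have hperp : Inv H (qPerp q W) := fun h hh x hx =>
      (mem_qPerp q).2 fun w hw => by
        have h1 := polar_isometry (hiso (H.inv_mem hh)) w ((h : Matrix ι ι F) *ᵥ x)
        rw [← mulVec_mul, inv_mul_cancel, Units.val_one, one_mulVec] at h1
        rw [← h1]
        exact (mem_qPerp q).1 hx _ (hW h⁻¹ (H.inv_mem hh) w hw)
    left
    by_cases hR : W ⊓ qPerp q W = ⊥
    swap
    · refine .singular _ hR (fun x hx => ?_) (hmem _ fun h hh x hx => ⟨hW h hh x hx.1, hperp h hh x hx.2⟩)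
      have h1 := (mem_qPerp q).1 hx.2 x hx.1
      rw [quad_polar_self] at h1
      exact (mul_eq_zero.1 h1).resolve_left h2
    refine .nondeg W hW0 hW1 (fun w hw hw0 => ?_) (hmem W hW)
    obtain ⟨x, hx, hwx⟩ : ∃ x ∈ W, QuadraticMap.polar q w x ≠ 0 := by
      by_contra hno
      push Not at hno
      exact hw0 ((Submodule.eq_bot_iff _).1 hR w
        ⟨hw, (mem_qPerp q).2 fun x hx => (QuadraticMap.polar_comm q x w).trans (hno x hx)⟩)
    exact ⟨⟨x, hx, by rwa [QuadraticMap.polar_comm]⟩, ⟨x, hx, hwx⟩⟩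
  obtain ⟨N, hNH, hN, hNs, hmin⟩ := exists_minimal_normal (irr_not_scalar (by omega) hirr)
  have hNiso := hNH.trans hiso
  have htriv : ∀ x ∈ H, x ∈ Cfsg.Geo.scalars ι F → x = 1 := fun x hx =>
    scalar_eq_one hQ hodd (hiso hx) (hdet hx)
  have hfix : Cfsg.Geo.FixesForm (Cfsg.Geo.matrixSet N) (QuadraticMap.polar ⇑q) := by
    rintro _ ⟨x, hx, rfl⟩ u v
    exact polar_isometry (hNiso hx) u v
  have mkSub : ∀ (F₀ : Subfield F) (r : ℕ) (B : GL ι F), r.Prime → Fintype.card F = Nat.card F₀ ^ r →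
      ∀ S : Subgroup (GL ι F), AbsIrr S → S ≤ H → NormalisedBy H S →
      (∀ s ∈ S, ∀ i j, ((B : Matrix ι ι F) * (s : Matrix ι ι F) * ((B⁻¹ : GL ι F) : Matrix ι ι F)) i j ∈ F₀) →
      InOddGeometric q H := by
    intro F₀ r B hr hcard S hS hSH hSn hrat
    obtain ⟨P, hP, hPeq⟩ := exists_rational_structure hQ h2 hodd (hstd F₀) hS (hSH.trans hiso) hrat
    exact .subfield F₀ r P hr hcard hP
      (fun h hh => hPeq ▸ mem_subfieldSubgroup_of_normalises hS hrat (hSn h hh))
  have hthree : Fintype.card F = 3 → (Fintype.card F).Prime := fun h => h ▸ Nat.prime_three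
  have mkTensor : ∀ {t k : ℕ} {e : ι ≃ (Fin t → Fin k)} {P : GL ι F} {c : F}, 3 ≤ k → 2 ≤ t → c ≠ 0 →
      fGram e P (QuadraticMap.polar ⇑q) = c • 1 → H ≤ Cfsg.Geo.tensorWreathSubgroup k t e P →
      InOddGeometric q H := by
    intro t k e P c hk ht hc hG hle
    by_cases hex : Fintype.card F = 3 ∧ k = 3
    swap
    · exact .wreath k t e P c hk ht hex hc hG hle
    obtain ⟨hq, rfl⟩ := hex
    obtain ⟨D, hD, hst⟩ := exists_lines_of_three hq (n := Fintype.card ι) (by omega) rfl hc hG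
    exact .lines _ D (hthree hq) hD (le_trans (le_inf hle hiso) hst)
  rcases clifford_gen_alg hirr hN with ⟨t, k, D, hD, hst, ε, hε⟩ | ⟨r, K, hr, hK, hle, hKc, hfield⟩ |
    ⟨d, k, e, P, N₀, hd, hk, habs, hK, hK'⟩
  · -- blocks
    obtain ⟨hDo, htrans⟩ := orth_decomp hQ hodd hirr hiso hNH hD hst hε
    left
    rcases Nat.lt_or_ge 1 k with hk | hk
    · exact .blocks t k D hk hDo hst
    have hk1 : k = 1 := by have := hD.pos; omega
    subst hk1
    by_cases hq : (Fintype.card F).Prime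
    · exact .lines t D hq hDo hst
    have hbot : (⊥ : Subfield F) ≠ ⊤ := by
      intro h
      obtain ⟨p, _⟩ := CharP.exists F
      have : Fact p.Prime := ⟨CharP.char_is_prime F p⟩
      apply hq
      have h1 : Nat.card (⊥ : Subfield F) = Fintype.card F := by
        rw [← Nat.card_eq_fintype_card]
        exact Nat.card_congr (Equiv.subtypeUnivEquiv fun x => by rw [h]; trivial)
      rw [← h1, Subfield.card_bot F p]
      exact CharP.char_is_prime F p
    have ht : Fintype.card ι = t := by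
      have h := finrank_iSup_eq_sum D hD.indep hD.iSup_eq_top
      simpa [hD.finrank_eq, Module.finrank_pi, eq_comm] using h
    obtain ⟨B, hB⟩ := signed_coords hiso ht hDo hst htrans
    obtain ⟨F₁, r, hr, hcard, -⟩ := exists_prime_index ⊥ hbot
    refine mkSub F₁ r B hr hcard H (absIrr_of_idem_lines hirr hNH hD hε htrans) le_rfl
      (fun h hh x hx => H.mul_mem (H.mul_mem hh hx) (H.inv_mem hh)) fun s hs i j => ?_
    rcases hB s hs i j with h | h | h <;> rw [h]
    · exact F₁.zero_mem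
    · exact F₁.one_mem
    · exact F₁.neg_mem F₁.one_mem
  · -- a field
    have hadj : ∀ x ∈ K, adjM q x = x := fun x hx =>
      selfAdjoint_centre hQ h2 hodd hNiso hfield (hKc x hx).1 (hKc x hx).2
    refine Or.inl (.field r K hr (fun hre => hNs fun a ha => ?_) hK
      (fun x hx u v => by rw [polar_adjM hQ, hadj x hx]) hle)
    subst hre
    have hmem : ∀ x ∈ N, (x : Matrix ι ι F) ∈ K := fun x hx =>
      mem_of_commute_field hK fun y hy => ((hKc y hy).2 _ (coe_mem_alg hx)).symm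
    have haa : (a : Matrix ι ι F) * (a : Matrix ι ι F) = 1 := by
      conv_lhs => arg 1; rw [← hadj _ (hmem a ha), adjM_isometry hQ (hNiso ha)]
      rw [Units.inv_mul]
    by_cases hp : (a : Matrix ι ι F) = 1
    · exact mem_scalars_of_eq_smul (c := 1) (by rw [hp, one_smul])
    obtain ⟨z, hz, hzy⟩ := hK.inv _ (K.sub_mem (hmem a ha) K.one_mem) (sub_ne_zero.2 hp)
    rw [hK.comm _ (K.sub_mem (hmem a ha) K.one_mem) z hz] at hzy
    refine mem_scalars_of_eq_smul (c := -1) ?_
    rw [neg_one_smul]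
    refine eq_neg_of_add_eq_zero_left ?_
    calc (a : Matrix ι ι F) + 1 = z * ((a : Matrix ι ι F) - 1) * ((a : Matrix ι ι F) + 1) := by rw [hzy, one_mul]
      _ = z * ((a : Matrix ι ι F) * (a : Matrix ι ι F) - 1) := by noncomm_ring
      _ = 0 := by rw [haa, sub_self, mul_zero]
  rcases kron_cases hN hNs hd hk habs hK hK' with hNabs | ⟨hd2, hk2, ρ, hρ, hP, hle⟩
  swap
  · left
    rcases tensor_member h2 hQ hodd hfix hd2 hk2 hρ hP with
      ⟨n₁, n₂, e', f₁, f₂, h3, hlt, hs₁, hs₂, hf, hle'⟩ | ⟨e', P', c, hd3, hc, hG, hle'⟩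
    · exact .tensor n₁ n₂ e' P f₁ f₂ h3 hlt hs₁ hs₂ hf (hle.trans hle')
    · exact mkTensor hd3 le_rfl hc hG (hle.trans hle')
  -- absolutely irreducible
  have hperf : ⁅N, N⁆ = N := by
    by_contra hne
    have hle : ⁅N, N⁆ ≤ N := Subgroup.commutator_le.mpr fun a ha b hb =>
      N.mul_mem (N.mul_mem (N.mul_mem ha hb) (N.inv_mem ha)) (N.inv_mem hb)
    have hsc : ⁅N, N⁆ ≤ Cfsg.Geo.scalars ι F := by
      by_contra hc
      exact hne (hmin _ hle hN.comm_self hc)
    refine hNs fun a ha => hNabs.mem_scalars fun b hb => ?_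
    have h := htriv _ (hNH (hle (Subgroup.commutator_mem_commutator ha hb))) (hsc (Subgroup.commutator_mem_commutator ha hb))
    exact commutatorElement_eq_one_iff_mul_comm.1 h
  obtain ⟨t, L, ht, hL⟩ := exists_components hN hperf hNs hmin
  by_cases ht2 : 2 ≤ t
  · left
    obtain ⟨m, e, P, ρ, hW⟩ := exists_wreathData hNabs ht hL
    have hcard : Fintype.card ι = m ^ t := by simpa using Fintype.card_congr e
    have hmodd : Odd m := (Nat.odd_pow_iff (by omega)).1 (hcard ▸ hodd)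
    have hm3 : 3 ≤ m := by obtain ⟨a, ha⟩ := hmodd; have := hW.two; omega
    have : Nonempty (Fin t → Fin m) := ⟨fun _ => ⟨0, by omega⟩⟩
    have hf : IsSesq (RingEquiv.refl F) (QuadraticMap.polar ⇑q) := IsSesq.of_bilinear (polar_bilin q)
    obtain ⟨c, G, hc, hG⟩ := exists_pure_gram hf (polar_nondeg hQ)
      (fun i => (fun s hs => hfix s (Set.image_mono (hL.le i) hs) :
        Cfsg.Geo.FixesForm (Cfsg.Geo.matrixSet (L i)) (QuadraticMap.polar ⇑q))) hW.absIrr hW.coord
    have hsym := fGram_transpose (σ := RingEquiv.refl F) (e := e) (P := P) (f := QuadraticMap.polar ⇑q) (ε := 1)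
      fun u v => by rw [one_mul]; exact QuadraticMap.polar_comm _ _ _
    rw [hG, one_smul, transpose_smul, wr_transpose] at hsym
    have hGd : ∀ i, (G i : Matrix (Fin m) (Fin m) F).det ≠ 0 := fun i =>
      ((Matrix.isUnit_iff_isUnit_det _).mp (G i).isUnit).ne_zero
    have hGt : wr 1 (fun i => (G i : Matrix (Fin m) (Fin m) F)ᵀ) = wr 1 fun i => (G i : Matrix (Fin m) (Fin m) F) := by
      refine smul_right_injective (Matrix (Fin t → Fin m) (Fin t → Fin m) F) hc ?_
      ext a b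
      exact congrFun (congrFun hsym a) b
    have hnz : ∀ i, ∃ a b, (G i : Matrix (Fin m) (Fin m) F) a b ≠ 0 := by
      intro i
      by_contra hno
      push Not at hno
      have : Nonempty (Fin m) := ⟨⟨0, by omega⟩⟩
      exact hGd i (by rw [show (G i : Matrix (Fin m) (Fin m) F) = 0 from Matrix.ext hno]; exact det_zero)
    choose u v huv using hnz
    have hGs : ∀ i, (G i : Matrix (Fin m) (Fin m) F)ᵀ = G i := by
      intro i
      obtain ⟨l, hl⟩ := factor_of_eq _ _ hGt u v huv i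
      refine symm_of_sq h2 (by rwa [Fintype.card_fin]) (hGd i) ?_ hl
      have h1 := congrArg Matrix.transpose hl
      rw [transpose_transpose, transpose_smul, hl, smul_smul] at h1
      have h3 := congrFun (congrFun h1 (u i)) (v i)
      rw [Matrix.smul_apply, smul_eq_mul] at h3
      exact ((mul_eq_right₀ (huv i)).mp h3.symm)
    obtain ⟨P', c', hc', hG', heq⟩ := exists_standard_power h2 hf hmodd hc hGs hGd hG
    exact mkTensor hm3 ht2 hc' hG' (heq ▸ hW.le)
  obtain rfl : t = 1 := by omega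
  have hL0 : L 0 = N := by rw [← hL.iSup_eq, iSup_unique]; rfl
  have hcore : CoreData H N := ⟨hNH, hN, hperf, isSimpleGroup_quot hperf hNs fun M hM hMn hMs =>
      (hL.simple 0 M (hL0 ▸ hM) (hL0 ▸ hMn) hMs).trans hL0,
    not_comm_quot hperf hNs, fun h _ hc => hNabs.mem_scalars (comm_of_comm_mod_scalars hperf hc), hNabs⟩
  by_cases hsub : ∃ F₀ : Subfield F, F₀ ≠ ⊤ ∧ Cfsg.Geo.RealisableOver F₀ (Cfsg.Geo.matrixSet N)
  · obtain ⟨F₀, hF₀, B, hB⟩ := hsub
    obtain ⟨F₁, r, hr, hcard, hle⟩ := exists_prime_index F₀ hF₀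
    exact Or.inl (mkSub F₁ r B hr hcard N hNabs hNH hN fun s hs i j => hle (hB _ ⟨s, hs, rfl⟩ i j))
  push Not at hsub
  refine Or.inr ⟨N, ⟨hcore.le, hcore.normal, hcore.perfect, hcore.simple, hcore.nonabelian,
    hcore.centralizer_scalar, hcore.absIrred, hsub⟩, ?_⟩
  rintro ⟨σ, f, hf, hfixU⟩
  obtain ⟨F₀, hF₀, hre⟩ := realisable_of_unitary hQ hodd hNabs hNiso hf hfixU
  exact hsub F₀ hF₀ hre

end CfsgLib.Techniques.AschOmega
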