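/-
The group `omegaGL` lies in no field normaliser, block stabiliser or tensor square stabiliser.
-/
import Cfsg.Agent.Lib.Techniques.AschOmega.OddClass
import Cfsg.Agent.Lib.Classical22.OrthDecompMax

set_option autoImplicit false

namespace CfsgLib.Techniques.AschOmega

open Matrix CfsgLib.Techniques.AschPrime CfsgLib.Techniques.AschGen CfsgLib.Classical CfsgLib.Classical22 CfsgLib.Classical22.OrthDecomp
open CfsgLib.Classical22.Asch CfsgLib.Classical22.TensorMono
open scoped MatrixGroups commutatorElement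

variable {F : Type*} [Field F] {ι : Type} [Fintype ι] [DecidableEq ι]

/-- The degree of a field of matrices divides the dimension. -/
theorem field_dvd [Nonempty ι] {r : ℕ} {K : Subalgebra F (Matrix ι ι F)} (hK : Cfsg.Geo.IsFieldSubalgebra r K) :
    r ∣ Fintype.card ι := by
  classical
  letI : CommRing K := { (inferInstance : Ring K) with mul_comm := fun a b => Subtype.ext (hK.comm _ a.2 _ b.2) }
  have hfield : IsField K := ⟨⟨0, 1, fun h => zero_ne_one (α := Matrix ι ι F) (congrArg Subtype.val h)⟩, mul_comm,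
    fun {a} ha => by
      obtain ⟨y, hy, hay⟩ := hK.inv a a.2 fun h => ha (Subtype.ext h)
      exact ⟨⟨y, hy⟩, Subtype.ext hay⟩⟩
  let act : K →+* Module.End F (ι → F) :=
    (Matrix.toLinAlgEquiv' : Matrix ι ι F ≃ₐ[F] Module.End F (ι → F)).toRingEquiv.toRingHom.comp K.val.toRingHom
  letI : Module K (ι → F) := Module.compHom _ act
  have hsmul : ∀ (k : K) (v : ι → F), k • v = (k : Matrix ι ι F) *ᵥ v := fun k v => by
    change act k v = _
    simp [act, Matrix.toLinAlgEquiv'_apply]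
  have ht : IsScalarTower F K (ι → F) := ⟨fun c k v => by
    rw [hsmul, hsmul]
    exact Matrix.smul_mulVec c (k : Matrix ι ι F) v⟩
  haveI : Module.Free K (ι → F) := by
    letI := hfield.toField
    exact Module.Free.of_divisionRing _ _
  haveI : StrongRankCondition K := by
    letI := hfield.toField
    exact inferInstance
  have hmul := @Module.finrank_mul_finrank F K (ι → F) _ _ _ _ _ _ ht _ _ _ _
  rw [Module.finrank_pi, hK.finrank_eq] at hmul
  exact ⟨_, hmul.symm⟩

/-- Commutators of elements normalising a field of matrices centralise it. -/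
theorem commutator_centralises [Fintype F] [Nonempty ι] {r : ℕ} {K : Subalgebra F (Matrix ι ι F)}
    (hK : Cfsg.Geo.IsFieldSubalgebra r K) {g h : GL ι F} (hg : g ∈ Cfsg.Geo.subalgebraNormalizer K)
    (hh : h ∈ Cfsg.Geo.subalgebraNormalizer K) {x : Matrix ι ι F} (hx : x ∈ K) :
    ((⁅g, h⁆ : GL ι F) : Matrix ι ι F) * x = x * ((⁅g, h⁆ : GL ι F) : Matrix ι ι F) := by
  classical
  letI : CommRing K := { (inferInstance : Ring K) with mul_comm := fun a b => Subtype.ext (hK.comm _ a.2 _ b.2) }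
  have hfield : IsField K := ⟨⟨0, 1, fun h => zero_ne_one (α := Matrix ι ι F) (congrArg Subtype.val h)⟩, mul_comm,
    fun {a} ha => by
      obtain ⟨y, hy, hay⟩ := hK.inv a a.2 fun h => ha (Subtype.ext h)
      exact ⟨⟨y, hy⟩, Subtype.ext hay⟩⟩
  letI : Field K := hfield.toField
  haveI : Finite (Matrix ι ι F) := Module.finite_of_finite F
  haveI : Finite K := Subtype.finite
  haveI : Fintype K := Fintype.ofFinite _
  obtain ⟨z, hz⟩ := IsCyclic.exists_monoid_generator (α := Kˣ)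
  obtain ⟨w, hw⟩ : ∃ w : Matrix ι ι F, w = ((z : K) : Matrix ι ι F) := ⟨_, rfl⟩
  have hwK : w ∈ K := hw ▸ (z : K).2
  have hgen : ∀ y ∈ K, y ≠ 0 → ∃ n : ℕ, w ^ n = y := by
    intro y hy hy0
    obtain ⟨n, hn⟩ := Submonoid.mem_powers_iff _ _ |>.1
      (hz (Units.mk0 (⟨y, hy⟩ : K) fun h => hy0 (congrArg Subtype.val h)))
    refine ⟨n, ?_⟩
    have h1 := congrArg (fun u : Kˣ => ((u : K) : Matrix ι ι F)) hn
    simpa [← hw] using h1
  have hw0 : w ≠ 0 := fun h => z.ne_zero (Subtype.ext (hw ▸ h))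
  have himg : ∀ a : GL ι F, a ∈ Cfsg.Geo.subalgebraNormalizer K → ∃ n : ℕ, cnj a w = w ^ n := by
    intro a ha
    obtain ⟨n, hn⟩ := hgen (cnj a w) (by rw [cnj_apply]; exact (ha w).1 hwK)
      fun h => hw0 ((cnj a).injective (h.trans (map_zero _).symm))
    exact ⟨n, hn.symm⟩
  have hswap : ∀ a ∈ Cfsg.Geo.subalgebraNormalizer K, ∀ b ∈ Cfsg.Geo.subalgebraNormalizer K, ∀ y ∈ K,
      cnj a (cnj b y) = cnj b (cnj a y) := by
    intro a ha b hb y hy
    by_cases hy0 : y = 0
    · simp [hy0]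
    obtain ⟨n, rfl⟩ := hgen y hy hy0
    obtain ⟨i, hi⟩ := himg a ha
    obtain ⟨j, hj⟩ := himg b hb
    simp only [map_pow, hi, hj, ← pow_mul]
    rw [mul_left_comm]
  have hcancel : ∀ (a : GL ι F) y, cnj a (cnj a⁻¹ y) = y := fun a y => by
    simp [cnj_apply, mul_assoc]
  have hy : cnj h⁻¹ x ∈ K := by
    rw [cnj_apply]
    exact ((Subgroup.inv_mem _ hh) x).1 hx
  have hfix : cnj ⁅g, h⁆ x = x := by
    calc cnj ⁅g, h⁆ x = cnj g (cnj h (cnj g⁻¹ (cnj h⁻¹ x))) := by
          simp [cnj_apply, commutatorElement_def, mul_assoc]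
      _ = x := by rw [hswap h hh g⁻¹ (Subgroup.inv_mem _ hg) _ hy, hcancel, hcancel]
  rw [cnj_apply] at hfix
  have := congrArg (fun X : Matrix ι ι F => X * ((⁅g, h⁆ : GL ι F) : Matrix ι ι F)) hfix
  rwa [mul_assoc, Units.inv_mul, mul_one] at this

variable [Fintype F] (q : QuadraticForm F (ι → F))

theorem not_omega_le_field (hQ : PolarNondeg q) (hn : 5 ≤ Fintype.card ι) {r : ℕ} (hr : 1 < r)
    {K : Subalgebra F (Matrix ι ι F)} (hK : Cfsg.Geo.IsFieldSubalgebra r K) :
    ¬ Cfsg.Geo.omegaGL ⇑q ≤ Cfsg.Geo.subalgebraNormalizer K := by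
  intro hle
  haveI : Nonempty ι := Fintype.card_pos_iff.mp (by omega)
  have hV : 5 ≤ Module.finrank F (ι → F) := by rwa [Module.finrank_pi]
  have hcomm : ∀ g ∈ eichGroup q, ∀ k ∈ K, (qHom q g : Matrix ι ι F) * k = k * (qHom q g : Matrix ι ι F) := by
    intro g hg
    rw [← eichGroup_perfect q hQ hV, Subgroup.commutator_def] at hg
    refine Subgroup.closure_induction (p := fun (g : qAut q) _ =>
      ∀ k ∈ K, (qHom q g : Matrix ι ι F) * k = k * (qHom q g : Matrix ι ι F)) ?_ (by simp) ?_ ?_ hg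
    · rintro _ ⟨a, ha, b, hb, rfl⟩ k hk
      rw [map_commutatorElement]
      exact commutator_centralises hK (hle (by rw [omegaGL_eq_map q hQ hn]; exact ⟨a, ha, rfl⟩))
        (hle (by rw [omegaGL_eq_map q hQ hn]; exact ⟨b, hb, rfl⟩)) hk
    · intro x y _ _ hx hy k hk
      rw [map_mul, Units.val_mul, mul_assoc, hy k hk, ← mul_assoc, hx k hk, mul_assoc]
    · intro x _ hx k hk
      rw [map_inv]
      exact (show Commute _ _ from hx k hk).units_inv_left
  obtain ⟨u, hu0, hQu⟩ := exists_singular q hQ (by omega)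
  have hscal : ∀ k ∈ K, ∃ c : F, k = c • 1 := by
    intro k hk
    have hfix : ∀ w, QuadraticMap.polar q u w = 0 →
        QuadraticMap.polar q (k *ᵥ u) u • w = (QuadraticMap.polar q (k *ᵥ u) w +
          q w * QuadraticMap.polar q (k *ᵥ u) u) • u := by
      intro w hw
      have h1 := congrArg (fun X : Matrix ι ι F => X *ᵥ u) (hcomm _ (eich_mem q hQu hw) k hk)
      simp only [← mulVec_mulVec, qHom_mulVec] at h1
      rw [eich_fix q hQu hw] at h1
      rw [eich_apply q hQu hw, add_sub_assoc, add_eq_left, sub_eq_zero] at h1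
      exact h1
    obtain ⟨W, hW⟩ : ∃ W, W = qPerp q (Submodule.span F {u}) := ⟨_, rfl⟩
    have hWd : Module.finrank F W = Fintype.card ι - 1 := by
      rw [hW, finrank_qPerp q hQ, finrank_span_singleton hu0, Module.finrank_pi]
    have hperp : ∀ w ∈ W, QuadraticMap.polar q u w = 0 := fun w hw => (mem_qPerp_singleton q).1 (hW ▸ hw)
    obtain ⟨w₀, hw₀, hw₀u⟩ : ∃ w ∈ W, w ∉ Submodule.span F {u} := by
      by_contra hno
      push Not at hno
      have := Submodule.finrank_mono (show W ≤ Submodule.span F {u} from hno)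
      rw [hWd, finrank_span_singleton hu0] at this
      omega
    have hku : QuadraticMap.polar q (k *ᵥ u) u = 0 := by
      by_contra hne
      refine hw₀u (Submodule.mem_span_singleton.2
        ⟨(QuadraticMap.polar q (k *ᵥ u) u)⁻¹ * (QuadraticMap.polar q (k *ᵥ u) w₀ +
          q w₀ * QuadraticMap.polar q (k *ᵥ u) u), ?_⟩)
      rw [← smul_smul, ← hfix w₀ (hperp w₀ hw₀), smul_smul, inv_mul_cancel₀ hne, one_smul]
    have hmem : k *ᵥ u ∈ qPerp q W := (mem_qPerp q).2 fun w hw => by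
      have h1 := hfix w (hperp w hw)
      rw [hku, zero_smul, mul_zero, add_zero, eq_comm, smul_eq_zero] at h1
      rw [QuadraticMap.polar_comm]
      exact h1.resolve_right hu0
    rw [hW, qPerp_qPerp q hQ, Submodule.mem_span_singleton] at hmem
    obtain ⟨c, hc⟩ := hmem
    refine ⟨c, ?_⟩
    by_contra hne
    obtain ⟨y, hy, hky⟩ := hK.inv _ (K.sub_mem hk (K.smul_mem K.one_mem c)) (sub_ne_zero.2 hne)
    rw [hK.comm _ (K.sub_mem hk (K.smul_mem K.one_mem c)) y hy] at hky
    apply hu0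
    rw [← one_mulVec u, ← hky, ← mulVec_mulVec, sub_mulVec, Matrix.smul_mulVec, one_mulVec, hc, sub_self, mulVec_zero]
  have h1 : Module.finrank F K ≤ 1 := by
    refine finrank_le_one (1 : K) fun k => ?_
    obtain ⟨c, hc⟩ := hscal k k.2
    exact ⟨c, Subtype.ext hc.symm⟩
  rw [hK.finrank_eq] at h1
  omega

theorem not_omega_le_blocks (hQ : PolarNondeg q) (hn : 5 ≤ Fintype.card ι) {t k : ℕ} (hk : 3 ≤ k)
    {D : Fin t → Submodule F (ι → F)} (hD : Cfsg.Geo.IsOrthogonalMDecomposition ⇑q k D) :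
    ¬ Cfsg.Geo.omegaGL ⇑q ≤ Cfsg.Geo.decompositionStabilizer D := by
  rw [omegaGL_eq_map q hQ hn, Subgroup.map_le_iff_le_comap, comap_decompositionStabilizer]
  exact not_eichGroup_le_dStab (data_of_decomp q hD) hQ hk hD.decomp.decomp.two_le

/-- Two isotropic vectors of a three-dimensional sum of squares with a non-zero minor. -/
theorem exists_two_isotropic (h2 : (2 : F) ≠ 0) :
    ∃ (s s' : Fin 3 → F) (i j : Fin 3), ∑ l, s l * s l = 0 ∧ ∑ l, s' l * s' l = 0 ∧
      s i * s' j - s j * s' i ≠ 0 := by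
  have hodd : Fintype.card F % 2 = 1 := FiniteField.odd_card_of_char_ne_two fun h => h2 (by
    haveI := ringChar.charP F
    rw [h] at this
    exact CharP.cast_eq_zero F 2)
  obtain ⟨x, y, hxy⟩ : ∃ x y : F, x * x + y * y = -1 := by
    obtain ⟨p, _⟩ := CharP.exists F
    haveI : Fact p.Prime := ⟨CharP.char_is_prime F p⟩
    obtain ⟨a, b, hab⟩ := FiniteField.exists_root_sum_quadratic (R := F)
      (f := (Polynomial.X : Polynomial F) ^ 2) (g := Polynomial.X ^ 2 - Polynomial.C (-1))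
      (Polynomial.degree_X_pow 2) (Polynomial.degree_X_pow_sub_C (by norm_num) _) hodd
    refine ⟨a, b, ?_⟩
    simp only [Polynomial.eval_pow, Polynomial.eval_X, Polynomial.eval_sub, Polynomial.eval_C] at hab
    linear_combination hab
  by_cases hx : x = 0
  · have hy : y ≠ 0 := fun hy => one_ne_zero (α := F) (by rw [hx, hy] at hxy; linear_combination hxy)
    exact ⟨![x, y, 1], ![x, -y, 1], 1, 2, by simp [Fin.sum_univ_three]; linear_combination hxy,
      by simp [Fin.sum_univ_three]; linear_combination hxy,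
      by simpa [sub_neg_eq_add, ← two_mul] using ⟨h2, hy⟩⟩
  · exact ⟨![x, y, 1], ![-x, y, 1], 0, 2, by simp [Fin.sum_univ_three]; linear_combination hxy,
      by simp [Fin.sum_univ_three]; linear_combination hxy,
      by simpa [sub_neg_eq_add, ← two_mul] using ⟨h2, hx⟩⟩

theorem not_omega_le_square (h2 : (2 : F) ≠ 0) (hQ : PolarNondeg q) (hn : 5 ≤ Fintype.card ι)
    {e : ι ≃ (Fin 2 → Fin 3)} {P : GL ι F} {c : F} (hG : fGram e P (QuadraticMap.polar ⇑q) = c • 1) :
    ¬ Cfsg.Geo.omegaGL ⇑q ≤ Cfsg.Geo.tensorWreathSubgroup 3 2 e P := by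
  intro hle
  obtain ⟨s, s', i, j, hs, hs', hij⟩ := exists_two_isotropic h2
  obtain ⟨b, hb⟩ : ∃ b : Fin 3 → Fin 3 → F, b = fun a l => if l = a then 1 else 0 := ⟨_, rfl⟩
  have hf : IsSesq (RingEquiv.refl F) (QuadraticMap.polar ⇑q) := IsSesq.of_bilinear (polar_bilin q)
  let vec : (Fin 3 → Fin 3 → F) → ι → F := fun M => (P : Matrix ι ι F) *ᵥ ((fun z => M (z 0) (z 1)) ∘ e)
  have hquad : ∀ M : Fin 3 → Fin 3 → F, (∑ a, ∑ l, M a l * M a l = 0) → q (vec M) = 0 := by
    intro M hM
    have h1 : QuadraticMap.polar q (vec M) (vec M) = 0 := by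
      rw [coord_formula hf, hG]
      simp only [smul_mulVec, one_mulVec, dotProduct_smul]
      rw [smul_eq_zero]
      right
      simp only [dotProduct]
      rw [← Equiv.sum_comp (piFinTwoEquiv fun _ => Fin 3).symm, Fintype.sum_prod_type]
      simpa using hM
    rw [quad_polar_self] at h1
    exact (mul_eq_zero.1 h1).resolve_left h2
  have hne : ∀ M : Fin 3 → Fin 3 → F, (∃ a l, M a l ≠ 0) → vec M ≠ 0 := by
    rintro M ⟨a, l, hal⟩ h0
    have h1 := congrFun (mulVec_inj P (h0.trans (mulVec_zero _).symm)) (e.symm ![a, l])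
    simp at h1
    exact hal h1
  have hsing : ∀ v : Fin 3 → F, ∑ l, v l * v l = 0 → ∀ a : Fin 3, ∑ l, ∑ a', (if a' = a then v l else 0) *
      (if a' = a then v l else 0) = 0 := fun v hv a => by simpa [← ite_and] using hv
  obtain ⟨M₁, hM₁⟩ : ∃ M₁ : Fin 3 → Fin 3 → F, M₁ = fun l a => s l * b 0 a := ⟨_, rfl⟩
  obtain ⟨M₂, hM₂⟩ : ∃ M₂ : Fin 3 → Fin 3 → F, M₂ = fun l a => s l * b 0 a + s' l * b 1 a := ⟨_, rfl⟩
  have hQ1 : q (vec M₁) = 0 := hquad _ (by
    subst hM₁ hb; simp [Fin.sum_univ_three] at hs ⊢; linear_combination hs)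
  have hQ2 : q (vec M₂) = 0 := hquad _ (by
    subst hM₂ hb; simp [Fin.sum_univ_three] at hs hs' ⊢; linear_combination hs + hs')
  obtain ⟨l, hl⟩ : ∃ l, s l ≠ 0 := by
    by_contra hno
    push Not at hno
    exact hij (by simp [hno])
  obtain ⟨g, hg, hgv⟩ := exists_move_eichGroup q hQ (by rw [Module.finrank_pi]; omega) hQ1 hQ2
    (hne _ ⟨l, 0, by subst hM₁ hb; simpa using hl⟩) (hne _ ⟨l, 0, by subst hM₂ hb; simpa using hl⟩)
  rw [← qHom_mulVec] at hgv
  obtain ⟨z, hz, hgz⟩ := exists_toCoord_of_mem (hle (by rw [omegaGL_eq_map q hQ hn]; exact ⟨g, hg, rfl⟩))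
  obtain ⟨π, A, hzA⟩ := standard_form hz
  let v : Fin 2 → Fin 3 → F := ![s, b 0]
  have hp : (fun y : Fin 2 → Fin 3 => M₁ (y 0) (y 1)) = fun y => ∏ k, v k (y k) := by
    funext y; simp [Fin.prod_univ_two, hM₁, v]
  have himg : ∀ x, ((wr π fun k => (A k : Matrix (Fin 3) (Fin 3) F)) *ᵥ fun y => ∏ k, v k (y k)) x =
      ∏ k, ((A k : Matrix (Fin 3) (Fin 3) F) *ᵥ v (π k)) (x k) := by
    intro x
    simp only [mulVec, dotProduct, wr_apply]
    rw [Finset.prod_sum, ← Equiv.sum_comp (Equiv.arrowCongr π (Equiv.refl (Fin 3)))]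
    refine Finset.sum_nbij' (fun y k _ => y k) (fun y k => y k (Finset.mem_univ k)) (by simp) (by simp)
      (by simp) (by simp) fun y _ => ?_
    simp only [Equiv.arrowCongr_apply, Function.comp_apply, Equiv.refl_apply, Equiv.coe_refl, id]
    rw [← Equiv.prod_comp π fun k => v k (y (π.symm k)), ← Finset.prod_mul_distrib, Finset.prod_attach_univ]
    simp
  have hval : ∀ x : Fin 2 → Fin 3, M₂ (x 0) (x 1) = ∏ k, ((A k : Matrix (Fin 3) (Fin 3) F) *ᵥ v (π k)) (x k) := by
    intro x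
    simp only [vec, mulVec_mulVec, toCoord_eq_iff.mp (hgz.trans hzA)] at hgv
    rw [← mulVec_mulVec] at hgv
    have h1 := congrFun (mulVec_inj P hgv) (e.symm x)
    rw [Matrix.submatrix_mulVec_equiv, Function.comp_assoc, Equiv.self_comp_symm, Function.comp_id, hp] at h1
    simp only [Function.comp_apply, Equiv.apply_symm_apply] at h1
    rw [himg] at h1
    exact h1.symm
  apply hij
  have a := hval ![i, 0]
  have b' := hval ![j, 1]
  have c' := hval ![j, 0]
  have d := hval ![i, 1]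
  subst hM₂ hb
  simp [Fin.prod_univ_two] at a b' c' d
  rw [a, b', c', d]
  ring

end CfsgLib.Techniques.AschOmega
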