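/-
Normalising the geometric members: even non-degenerate subspaces, and block systems of dimension three over three
elements refined to lines.
-/
import Cfsg.Agent.Lib.Techniques.AschOmega.NotLe

set_option autoImplicit false

namespace CfsgLib.Techniques.AschOmega

open Matrix CfsgLib.Techniques.AschPrime CfsgLib.Classical CfsgLib.Classical22
open scoped MatrixGroups

variable {F : Type*} [Field F] [Fintype F] {ι : Type} [Fintype ι] [DecidableEq ι]

/-- One of a non-degenerate subspace and its perp has even dimension, and the exceptional plane is avoided. -/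
theorem nondeg_even {q : QuadraticForm F (ι → F)} (hQ : PolarNondeg q) (h2 : (2 : F) ≠ 0)
    (hodd : Odd (Fintype.card ι)) (hn : 5 ≤ Fintype.card ι) {H : Subgroup (GL ι F)}
    (hiso : H ≤ Cfsg.isometryGroup F ⇑q) {W : Submodule F (ι → F)} (h0 : W ≠ ⊥) (h1 : W ≠ ⊤)
    (hW : Cfsg.Geo.IsNondegenerateOn (QuadraticMap.polar ⇑q) W) (hle : H ≤ Cfsg.Geo.subspaceStabilizer W) :
    ∃ U : Submodule F (ι → F), U ≠ ⊥ ∧ U ≠ ⊤ ∧ Even (Module.finrank F U) ∧
      Cfsg.Geo.IsNondegenerateOn (QuadraticMap.polar ⇑q) U ∧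
      ¬ (Fintype.card F = 3 ∧ Module.finrank F U = 2 ∧ Cfsg.Geo.IsPlusTypeOn ⇑q U) ∧
      H ≤ Cfsg.Geo.subspaceStabilizer U := by
  classical
  obtain ⟨n, hn'⟩ : ∃ n, n = Fintype.card ι := ⟨_, rfl⟩
  have hV : Module.finrank F (ι → F) = n := (Module.finrank_pi F).trans hn'.symm
  have hnd : ∀ U : Submodule F (ι → F), NdOn q U → Cfsg.Geo.IsNondegenerateOn (QuadraticMap.polar ⇑q) U := by
    intro U hU w hw hw0
    obtain ⟨x, hx, hwx⟩ : ∃ x ∈ U, QuadraticMap.polar q w x ≠ 0 := by
      by_contra hno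
      push Not at hno
      exact hw0 (hU w hw hno)
    exact ⟨⟨x, hx, by rwa [QuadraticMap.polar_comm]⟩, ⟨x, hx, hwx⟩⟩
  have hperp : ∀ U : Submodule F (ι → F), Inv H U → Inv H (qPerp q U) := fun U hU h hh x hx =>
    (mem_qPerp q).2 fun w hw => by
      have e := polar_isometry (hiso (H.inv_mem hh)) w ((h : Matrix ι ι F) *ᵥ x)
      rw [← mulVec_mul, inv_mul_cancel, Units.val_one, one_mulVec] at e
      rw [← e]
      exact (mem_qPerp q).1 hx _ (hU h⁻¹ (H.inv_mem hh) w hw)
  have hmem : ∀ U : Submodule F (ι → F), Inv H U → H ≤ Cfsg.Geo.subspaceStabilizer U :=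
    fun U hU h hh => CfsgLib.Transvec.mem_subspaceStabilizer_of_maps (hU h hh)
  have hWi : Inv H W := fun h hh w hw => CfsgLib.Transvec.mulVec_mem_of_mem_subspaceStabilizer (hle hh) hw
  have hWnd : NdOn q W := ndOn_of_isNondegenerateOn q hW
  obtain ⟨U, hUnd, hUi, hU0, hUe⟩ : ∃ U, NdOn q U ∧ Inv H U ∧ U ≠ ⊥ ∧ Even (Module.finrank F U) := by
    rcases Nat.even_or_odd (Module.finrank F W) with he | ho
    · exact ⟨W, hWnd, hWi, h0, he⟩
    refine ⟨qPerp q W, ndOn_qPerp q hQ hWnd, hperp W hWi, fun h => h1 ?_, ?_⟩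
    · refine Submodule.eq_top_of_finrank_eq ?_
      have e := finrank_qPerp q hQ W
      rw [h, finrank_bot] at e
      have := Submodule.finrank_le W
      omega
    · rw [finrank_qPerp q hQ, hV, hn']
      exact Nat.Odd.sub_odd hodd ho
  have hU1 : U ≠ ⊤ := fun h => by
    rw [h, finrank_top, hV, hn'] at hUe
    exact Nat.not_even_iff_odd.2 hodd hUe
  by_cases hexc : Fintype.card F = 3 ∧ Module.finrank F U = 2 ∧ Cfsg.Geo.IsPlusTypeOn ⇑q U
  swap
  · exact ⟨U, hU0, hU1, hUe, hnd U hUnd, hexc, hmem U hUi⟩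
  obtain ⟨a, haU, hqa, hline⟩ := exists_line_of_plane q hexc.1 hexc.2.1 (hnd U hUnd) hexc.2.2
  obtain ⟨A, hA⟩ : ∃ A, A = Submodule.span F {a} := ⟨_, rfl⟩
  have ha0 : a ≠ 0 := fun h => zero_ne_one (α := F) (by rw [← hqa, h, map_zero])
  have hAnd : NdOn q A := by
    rw [hA]
    intro x hx h
    obtain ⟨c, rfl⟩ := Submodule.mem_span_singleton.1 hx
    have e := h a (Submodule.mem_span_singleton_self a)
    rw [QuadraticMap.polar_smul_left, quad_polar_self, hqa, mul_one, smul_eq_mul, mul_eq_zero] at e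
    rw [e.resolve_right h2, zero_smul]
  have hAi : Inv H A := by
    rw [hA]
    intro h hh x hx
    obtain ⟨c, rfl⟩ := Submodule.mem_span_singleton.1 hx
    rw [mulVec_smul]
    exact Submodule.smul_mem _ _ (hline _ (hUi h hh a haU) ((map_isometry (hiso hh) a).trans hqa))
  have hd : Module.finrank F (qPerp q A) = n - 1 := by
    rw [finrank_qPerp q hQ, hV, hA, finrank_span_singleton ha0]
  obtain ⟨m, hm⟩ := hodd
  refine ⟨qPerp q A, fun h => ?_, fun h => ?_, ⟨m, by omega⟩, hnd _ (ndOn_qPerp q hQ hAnd), fun h => by omega,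
    hmem _ (hperp A hAi)⟩
  · rw [h, finrank_bot] at hd; omega
  · rw [h, finrank_top, hV] at hd; omega

/-- Over three elements a system of three-dimensional blocks is refined by orthogonal lines. -/
theorem blocks_to_lines (hq : Fintype.card F = 3) {q : QuadraticForm F (ι → F)} {t n : ℕ}
    (hn : Fintype.card ι = n) {D : Fin t → Submodule F (ι → F)}
    (hD : Cfsg.Geo.IsOrthogonalMDecomposition ⇑q 3 D) :
    ∃ D' : Fin n → Submodule F (ι → F), Cfsg.Geo.IsOrthogonalMDecomposition ⇑q 1 D' ∧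
      Cfsg.Geo.decompositionStabilizer D ⊓ Cfsg.isometryGroup F ⇑q ≤ Cfsg.Geo.decompositionStabilizer D' := by
  classical
  have h3 := three_eq_zero hq
  have h2 : (2 : F) ≠ 0 := fun h2 => one_ne_zero (show (1 : F) = 0 by linear_combination h3 - h2)
  have ht := hD.decomp.decomp.two_le
  have hdim := hD.decomp.decomp.finrank_eq
  have htn : n = t * 3 := hn ▸ OrthDecomp.card_eq_mul hD.decomp.decomp
  let i₀ : Fin t := ⟨0, by omega⟩
  let β := Module.finBasisOfFinrankEq F (D i₀) (hdim i₀)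
  obtain ⟨G, hG⟩ : ∃ G : Matrix (Fin 3) (Fin 3) F,
      G = Matrix.of fun a b => QuadraticMap.polar q (β a : ι → F) (β b : ι → F) := ⟨_, rfl⟩
  have hpol : ∀ (x y : Fin 3 → F), QuadraticMap.polar q (∑ a, x a • (β a : ι → F)) (∑ b, y b • (β b : ι → F)) =
      x ⬝ᵥ (G *ᵥ y) := by
    intro x y
    rw [← QuadraticMap.polarBilin_apply_apply, map_sum]
    simp only [map_smul, LinearMap.coe_sum, Finset.sum_apply, LinearMap.smul_apply, map_sum,
      QuadraticMap.polarBilin_apply_apply, smul_eq_mul, Finset.mul_sum, dotProduct, mulVec, hG, Matrix.of_apply]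
    rw [Finset.sum_comm]
    exact Finset.sum_congr rfl fun a _ => Finset.sum_congr rfl fun b _ => by ring
  have hGd : G.det ≠ 0 := by
    intro h0
    obtain ⟨y, hy0, hy⟩ := Matrix.exists_mulVec_eq_zero_iff.mpr h0
    have hsum : (∑ b, y b • (β b : ι → F)) ≠ 0 := fun h =>
      hy0 (funext (Fintype.linearIndependent_iff.mp β.linearIndependent y (Subtype.ext (by simpa using h))))
    obtain ⟨⟨x, hx, hxy⟩, -⟩ := hD.decomp.nondegenerate i₀ _ (Submodule.sum_mem _ fun b _ =>
      Submodule.smul_mem _ _ (β b).2) hsum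
    have hxe := congrArg Subtype.val (β.sum_repr ⟨x, hx⟩)
    simp only [Submodule.coe_sum, Submodule.coe_smul] at hxe
    rw [← hxe, hpol, hy, dotProduct_zero] at hxy
    exact hxy rfl
  obtain ⟨c, A, hc, hA⟩ := exists_congr_scalar h2 (κ := Fin 3) (by decide)
    (G := G) (Matrix.ext fun a b => by rw [hG]; exact QuadraticMap.polar_comm _ _ _) hGd
  obtain ⟨w₀, hw₀⟩ : ∃ w₀ : Fin 3 → D i₀, w₀ = fun b => ∑ a, (A : Matrix (Fin 3) (Fin 3) F) a b • β a := ⟨_, rfl⟩
  have hw₀p : ∀ a b, QuadraticMap.polar q (w₀ a : ι → F) (w₀ b : ι → F) = if a = b then c else 0 := by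
    intro a b
    simp only [hw₀, Submodule.coe_sum, Submodule.coe_smul]
    rw [hpol]
    have h := congrFun (congrFun hA a) b
    simp only [Matrix.mul_apply, transpose_apply, Matrix.smul_apply, Matrix.one_apply, smul_eq_mul, mul_ite, mul_one,
      mul_zero] at h
    rw [← h]
    simp only [dotProduct, mulVec, Finset.mul_sum, Finset.sum_mul]
    rw [Finset.sum_comm]
    exact Finset.sum_congr rfl fun x _ => Finset.sum_congr rfl fun y _ => by ring
  choose φ hφ using hD.isometric i₀
  let w : Fin t → Fin 3 → ι → F := fun i b => (φ i (w₀ b) : ι → F)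
  have hwD : ∀ i b, w i b ∈ D i := fun i b => (φ i (w₀ b)).2
  have hwp : ∀ i j a b, QuadraticMap.polar q (w i a) (w j b) = if (i, a) = (j, b) then c else 0 := by
    intro i j a b
    by_cases hij : i = j
    · subst hij
      simp only [Prod.mk.injEq, true_and]
      rw [← hw₀p a b]
      simp only [w, QuadraticMap.polar, ← Submodule.coe_add, ← map_add, hφ]
    · rw [if_neg (fun h => hij (congrArg Prod.fst h)),
        hD.decomp.orthogonal i j hij _ (hwD i a) _ (hwD j b)]
  have hspan : ∀ j, ∀ x ∈ D j, ∃ y : Fin 3 → F, ∑ b, y b • w j b = x := by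
    intro j x hx
    have hli : LinearIndependent F (w j) := by
      rw [Fintype.linearIndependent_iff]
      intro y hy b
      have h1 := congrArg (fun z => QuadraticMap.polarBilin q z (w j b)) hy
      simp only [map_sum, map_smul, LinearMap.coe_sum, Finset.sum_apply, LinearMap.smul_apply,
        QuadraticMap.polarBilin_apply_apply, hwp, smul_eq_mul, mul_ite, mul_zero, Prod.mk.injEq, true_and,
        Finset.sum_ite_eq', Finset.mem_univ, if_true, QuadraticMap.polar_zero_left] at h1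
      exact (mul_eq_zero.1 (by simpa using h1)).resolve_right hc
    have heq : Submodule.span F (Set.range (w j)) = D j := by
      refine Submodule.eq_of_le_of_finrank_le (Submodule.span_le.2 ?_) ?_
      · rintro _ ⟨b, rfl⟩; exact hwD j b
      · rw [finrank_span_eq_card hli, hdim, Fintype.card_fin]
    rw [← heq] at hx
    exact (Submodule.mem_span_range_iff_exists_fun F).1 hx
  let E : Fin n ≃ Fin t × Fin 3 := (finCongr htn).trans finProdFinEquiv.symm
  obtain ⟨D', -, hD', hstab⟩ := lines_of_orth_basis h2 (by omega) hn (q := q)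
    (w := fun x => w (E x).1 (E x).2) hc (fun x y => by rw [hwp]; simp)
  refine ⟨D', hD', fun g hg => hstab g fun x => ?_⟩
  obtain ⟨σ, hσ⟩ := hg.1
  obtain ⟨i, a, hxe⟩ : ∃ i a, E x = (i, a) := ⟨_, _, rfl⟩
  simp only [hxe]
  have hmem : (g : Matrix ι ι F) *ᵥ w i a ∈ D (σ i) := hσ i ▸ ⟨w i a, hwD i a, Matrix.toLin'_apply _ _⟩
  obtain ⟨y, hy⟩ := hspan _ _ hmem
  have hyy : ∑ b, y b * y b = 1 := by
    have h1 := polar_isometry hg.2 (w i a) (w i a)
    rw [← hy, hwp, if_pos rfl, ← QuadraticMap.polarBilin_apply_apply, map_sum] at h1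
    simp only [map_sum, map_smul, LinearMap.coe_sum, Finset.sum_apply, LinearMap.smul_apply,
      QuadraticMap.polarBilin_apply_apply, hwp, smul_eq_mul, mul_ite, mul_zero, Prod.mk.injEq, true_and,
      Finset.sum_ite_eq, Finset.sum_ite_eq', Finset.mem_univ, if_true] at h1
    refine mul_right_cancel₀ hc ?_
    rw [one_mul, Finset.sum_mul]
    simpa [mul_assoc] using h1
  obtain ⟨b, -, hb⟩ := single_of_sum_sq hq hyy
  refine ⟨E.symm (σ i, b), y b, ?_⟩
  rw [Equiv.apply_symm_apply, ← hy]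
  exact Finset.sum_eq_single b (fun z _ hz => by rw [hb z hz, zero_smul]) (by simp)

end CfsgLib.Techniques.AschOmega
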