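/-
The standard odd-dimensional form: maximal subgroups in prime dimension.
-/
import Cfsg.Agent.Lib.Techniques.AschOmega.Main
import Cfsg.Agent.Lib.Classical22.OrthTypeBridge

set_option autoImplicit false

namespace CfsgLib.Techniques.AschOmega

open Matrix CfsgLib.Classical
open scoped MatrixGroups

variable {F : Type*} [Field F]

theorem quadFormOdd_rational {m : ℕ} {F₀ : Subfield F} {v : Unit ⊕ (Fin m ⊕ Fin m) → F} (hv : ∀ i, v i ∈ F₀) :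
    Cfsg.quadFormOdd m F v ∈ F₀ := by
  unfold Cfsg.quadFormOdd
  exact F₀.add_mem (pow_mem (hv _) 2) (sum_mem fun i _ => F₀.mul_mem (hv _) (hv _))

theorem polarMat_qOdd_mem {m : ℕ} (F₀ : Subfield F) (i j : OddI m) : polarMat (qOdd m F) i j ∈ F₀ := by
  have hs : ∀ a k : OddI m, (Pi.single a (1 : F) : OddI m → F) k ∈ F₀ := fun a k => by
    rw [Pi.single_apply]
    split_ifs
    · exact F₀.one_mem
    · exact F₀.zero_mem
  change QuadraticMap.polar (qOdd m F) (Pi.single i 1) (Pi.single j 1) ∈ F₀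
  simp only [coe_qOdd, QuadraticMap.polar]
  exact sub_mem (sub_mem (quadFormOdd_rational fun k => by rw [Pi.add_apply]; exact F₀.add_mem (hs i k) (hs j k))
    (quadFormOdd_rational (hs i))) (quadFormOdd_rational (hs j))

/-- The maximal subgroups of `Ω_{2m+1}(q)`, `q` odd, `2m+1` prime. -/
theorem omega_odd_max [Fintype F] (hodd : Odd (Fintype.card F)) {m n : ℕ} (hn : 2 * m + 1 = n) (hp : n.Prime)
    (hn7 : 7 ≤ n) {H : Subgroup (GL (Unit ⊕ (Fin m ⊕ Fin m)) F)}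
    (hH : Cfsg.Geo.IsMaximalIn (Cfsg.Geo.omegaGL (Cfsg.quadFormOdd m F)) H) :
    (∃ W : Submodule F (Unit ⊕ (Fin m ⊕ Fin m) → F), W ≠ ⊥ ∧
      Cfsg.Geo.IsTotallySingularQuad (Cfsg.quadFormOdd m F) W ∧
      H = Cfsg.Geo.subspaceStabilizer W ⊓ Cfsg.Geo.omegaGL (Cfsg.quadFormOdd m F)) ∨
    (∃ W : Submodule F (Unit ⊕ (Fin m ⊕ Fin m) → F), W ≠ ⊥ ∧ Even (Module.finrank F W) ∧
      Cfsg.Geo.IsNondegenerateOn (QuadraticMap.polar (Cfsg.quadFormOdd m F)) W ∧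
      ¬ (Fintype.card F = 3 ∧ Module.finrank F W = 2 ∧ Cfsg.Geo.IsPlusTypeOn (Cfsg.quadFormOdd m F) W) ∧
      H = Cfsg.Geo.subspaceStabilizer W ⊓ Cfsg.Geo.omegaGL (Cfsg.quadFormOdd m F)) ∨
    ((Fintype.card F).Prime ∧ ∃ D : Fin n → Submodule F (Unit ⊕ (Fin m ⊕ Fin m) → F),
      Cfsg.Geo.IsOrthogonalMDecomposition (Cfsg.quadFormOdd m F) 1 D ∧
      H = Cfsg.Geo.decompositionStabilizer D ⊓ Cfsg.Geo.omegaGL (Cfsg.quadFormOdd m F)) ∨
    (∃ (F₀ : Subfield F) (r : ℕ) (P : GL (Unit ⊕ (Fin m ⊕ Fin m)) F), r.Prime ∧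
      Fintype.card F = Nat.card F₀ ^ r ∧ Cfsg.Geo.IsQuadFormRationalStructure (Cfsg.quadFormOdd m F) F₀ P ∧
      H = Cfsg.Geo.subfieldSubgroup F₀ P ⊓ Cfsg.Geo.omegaGL (Cfsg.quadFormOdd m F)) ∨
    Cfsg.Geo.InOrthogonalResidualClass H := by
  have h2 : (2 : F) ≠ 0 := CfsgLib.Classical22.OrthType.two_ne_zero_of_odd rfl hodd
  rw [← coe_qOdd] at hH ⊢
  exact omega_max (by simp; omega) hp hn7 _ (CfsgLib.Classical22.OrthType.polarNondeg_qOdd' h2 m) h2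
    polarMat_qOdd_mem hH

end CfsgLib.Techniques.AschOmega
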